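import Groth.Agent.Lib.Helper97.DefLift.OfAlg

/-!
# Pullback squares of spectra along a surjection of the base
-/

set_option autoImplicit false

namespace Groth.Agent.Lib.Helper97.DefTors

open CategoryTheory CategoryTheory.Limits AlgebraicGeometry
open Groth.Agent.Lib.Helper97.DefAff Groth.Agent.Lib.Helper97.DefLift

universe u

section Ring

variable {A A' S S' : Type u} [CommRing A] [CommRing A'] [CommRing S] [CommRing S']
  (p : A' →+* A) (a : A →+* S) (a' : A' →+* S') (q : S' →+* S)

lemma ΓSpecIso_hom_appTop (z : Γ(Spec (CommRingCat.of S'), ⊤)) :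
    (Scheme.ΓSpecIso (CommRingCat.of S)).hom.hom
      ((Spec.map (CommRingCat.ofHom q)).appTop.hom z) =
      q ((Scheme.ΓSpecIso (CommRingCat.of S')).hom.hom z) :=
  congrArg (fun f => f.hom z) (Scheme.ΓSpecIso_naturality (CommRingCat.ofHom q))

lemma ΓSpecIso_hom_baseMap (c : A') :
    (Scheme.ΓSpecIso (CommRingCat.of S')).hom.hom
      (baseMap (Spec.map (CommRingCat.ofHom a')) c) = a' c := by
  have h1 := ΓSpecIso_hom_appTop a' ((Scheme.ΓSpecIso (CommRingCat.of A')).inv.hom c)
  have h2 : (Scheme.ΓSpecIso (CommRingCat.of A')).hom.hom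
      ((Scheme.ΓSpecIso (CommRingCat.of A')).inv.hom c) = c :=
    congrArg (fun f => f.hom c) (Scheme.ΓSpecIso (CommRingCat.of A')).inv_hom_id
  rw [h2] at h1
  exact h1

/-- A pullback square of spectra over a surjection of the bases: the top map is surjective with
kernel generated by the kernel of the base map. -/
theorem surjective_and_ker_of_isPullback (hp : Function.Surjective p)
    (h : IsPullback (Spec.map (CommRingCat.ofHom q)) (Spec.map (CommRingCat.ofHom a))
      (Spec.map (CommRingCat.ofHom a')) (Spec.map (CommRingCat.ofHom p))) :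
    Function.Surjective q ∧ RingHom.ker q = (RingHom.ker p).map a' := by
  have hs := appTop_surjective p hp h
  have hk := ker_appTop p hp h
  have hbijS : Function.Bijective (Scheme.ΓSpecIso (CommRingCat.of S)).hom.hom :=
    (ConcreteCategory.isIso_iff_bijective _).mp inferInstance
  have hbijS' : Function.Bijective (Scheme.ΓSpecIso (CommRingCat.of S')).hom.hom :=
    (ConcreteCategory.isIso_iff_bijective _).mp inferInstance
  have hcomm : ∀ c, q (a' c) = a (p c) := by
    intro c
    have hw := h.w
    rw [← Spec.map_comp, ← Spec.map_comp] at hw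
    have := Spec.map_injective hw
    exact congrArg (fun f => f.hom c) this
  refine ⟨?_, ?_⟩
  · intro s
    obtain ⟨w, hw⟩ := hbijS.2 s
    obtain ⟨z, hz⟩ := hs w
    refine ⟨(Scheme.ΓSpecIso (CommRingCat.of S')).hom.hom z, ?_⟩
    rw [← ΓSpecIso_hom_appTop, hz, hw]
  · apply le_antisymm
    · intro y hy
      obtain ⟨z, rfl⟩ := hbijS'.2 y
      have h1 : (Spec.map (CommRingCat.ofHom q)).appTop.hom z = 0 := by
        apply hbijS.1
        rw [ΓSpecIso_hom_appTop, map_zero]
        exact hy
      have h2 : z ∈ (RingHom.ker p).map (baseMap (Spec.map (CommRingCat.ofHom a'))) := by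
        rw [← hk]
        exact h1
      have h3 : ((Scheme.ΓSpecIso (CommRingCat.of S')).hom.hom).comp
          (baseMap (Spec.map (CommRingCat.ofHom a'))) = a' :=
        RingHom.ext fun c => ΓSpecIso_hom_baseMap a' c
      rw [← h3, ← Ideal.map_map]
      exact Ideal.mem_map_of_mem _ h2
    · rw [Ideal.map_le_iff_le_comap]
      intro c hc
      rw [Ideal.mem_comap, RingHom.mem_ker, hcomm, RingHom.mem_ker.mp hc, map_zero]

end Ring

variable {k : Type u} [Field k] {A : ArtFun.Art k k} {B₀ : Type u} [CommRing B₀] [Algebra k B₀]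

/-- Base change of ring data along a surjection of the base, with the description of the
projection to the total space. -/
theorem exists_baseChange_iso {A' : ArtFun.Art k k} (p : A' ⟶ A) (d' : AlgData A' B₀)
    (d : AlgData A B₀) (q : d'.R →+* d.R) (hq : Function.Surjective q)
    (hp : Function.Surjective p.toAlgHom.toRingHom)
    (hker : RingHom.ker q = (RingHom.ker p.toAlgHom.toRingHom).map d'.a)
    (hqa : ∀ c, q (d'.a c) = d.a (p.toAlgHom c)) (hqπ : ∀ x, d.π (q x) = d'.π x) :
    ∃ β : ((ofAlg d').baseChange p).Iso (ofAlg d),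
      β.iso.inv ≫ pullback.fst (ofAlg d').f (ArtFun.Art.specMap p) =
        (Spec.map (CommRingCat.ofHom q) : (ofAlg d).total ⟶ (ofAlg d').total) := by
  have hpo := isPushout_of_surjective d'.a p.toAlgHom.toRingHom q d.a
    (RingHom.ext hqa) hq hker hp
  have hpb : IsPullback (Spec.map (CommRingCat.ofHom q)) (Spec.map (CommRingCat.ofHom d.a))
      (Spec.map (CommRingCat.ofHom d'.a)) (Spec.map (CommRingCat.ofHom p.toAlgHom.toRingHom)) :=
    isPullback_SpecMap_of_isPushout _ _ _ _ hpo
  let qS : (ofAlg d).total ⟶ (ofAlg d').total := Spec.map (CommRingCat.ofHom q)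
  have hpb' : IsPullback qS (ofAlg d).f (ofAlg d').f (ArtFun.Art.specMap p) := hpb
  have hiq : (ofAlg d).i ≫ qS = (ofAlg d').i := by
    show Spec.map (CommRingCat.ofHom d.π) ≫ Spec.map (CommRingCat.ofHom q) =
      Spec.map (CommRingCat.ofHom d'.π)
    rw [← Spec.map_comp, ← CommRingCat.ofHom_comp]
    congr 2
    exact RingHom.ext hqπ
  let big := IsPullback.of_hasPullback (ofAlg d').f (ArtFun.Art.specMap p)
  refine ⟨⟨big.isoIsPullback _ _ hpb', ?_, ?_⟩, ?_⟩
  · exact IsPullback.isoIsPullback_hom_snd _ _ big hpb'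
  · have hfst := IsPullback.isoIsPullback_hom_fst _ _ big hpb'
    have hsnd := IsPullback.isoIsPullback_hom_snd _ _ big hpb'
    apply hpb'.hom_ext
    · rw [Category.assoc, hfst, ArtFun.DefSch.baseChange_i_fst, hiq]
    · rw [Category.assoc, hsnd]
      exact (ArtFun.DefSch.baseChange_i_f (ofAlg d') p).trans (ofAlg d).i_f.symm
  · exact IsPullback.isoIsPullback_inv_fst _ _ big hpb'

end Groth.Agent.Lib.Helper97.DefTors
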