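import Groth.Agent.Lib.Helper97.DefTors.Diff2

/-!
# An extension is the sum of the base extension and the difference
-/

set_option autoImplicit false

namespace Groth.Agent.Lib.Helper97.DefTors

open TensorProduct

universe u

variable {k : Type u} [Field k] {C' C : Type u} [CommRing C'] [CommRing C] [Algebra k C']
  [Algebra k C] {p : C' →ₐ[k] C}
  {B₀ : Type u} [CommRing B₀] [Algebra k B₀]
  {R : Type u} [CommRing R] {a : C →+* R} {π : R →+* B₀}
  (eC' : C' →ₐ[k] k) (eC : C →ₐ[k] k) (hpe : eC.comp p = eC')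
  (hp : Function.Surjective p) (hπ : Function.Surjective π)
  (hπa : ∀ c, π (a c) = algebraMap k B₀ (eC c))
  (hkerπ : RingHom.ker π = (RingHom.ker eC.toRingHom).map a)
  (e₀ e : JExt p a π)

/-- Every extension is the sum of a fixed one and an extension of the closed fibre. -/
theorem sum_diff_equivalent [IsLocalRing C] (hC : IsNilpotent (IsLocalRing.maximalIdeal C))
    (ha : a.Flat) :
    (JExt.sum eC' eC hpe hπa e₀
      (JExt.diff eC' eC hpe hp hπ hπa hkerπ e₀ e hC ha)).Equivalent e := by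
  have hmem : ∀ g : diffG e₀ e,
      ((g.1.2, diffMk eC' e₀ e g) :
        e₀.R' × (JExt.diff eC' eC hpe hp hπ hπa hkerπ e₀ e hC ha).E) ∈
        sumG e₀ (JExt.diff eC' eC hpe hp hπ hπa hkerπ e₀ e hC ha) := by
    intro g
    rw [mem_sumG]
    show π (e₀.q g.1.2) = diffProj eC' eC hpe hπa e₀ e (diffMk eC' e₀ e g)
    rw [diffProj_mk, diffG_prop]
  let ψ₀ : diffG e₀ e →+* SumR e₀ (JExt.diff eC' eC hpe hp hπ hπa hkerπ e₀ e hC ha) :=
    (Ideal.Quotient.mk (sumD e₀ (JExt.diff eC' eC hpe hp hπ hπa hkerπ e₀ e hC ha))).comp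
      (RingHom.codRestrict
        (RingHom.prod ((RingHom.snd e.R' e₀.R').comp (diffG e₀ e).subtype)
          (diffMk eC' e₀ e :
            diffG e₀ e →+* (JExt.diff eC' eC hpe hp hπ hπa hkerπ e₀ e hC ha).E))
        (sumG e₀ (JExt.diff eC' eC hpe hp hπ hπa hkerπ e₀ e hC ha)) hmem)
  let fstG : diffG e₀ e →+* e.R' := (RingHom.fst e.R' e₀.R').comp (diffG e₀ e).subtype
  have hfst : Function.Surjective fstG := by
    intro x
    obtain ⟨y₀, hy₀⟩ := e₀.q_surj (e.q x)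
    exact ⟨⟨(x, y₀), by rw [mem_diffG]; exact hy₀.symm⟩, rfl⟩
  have hker : RingHom.ker fstG ≤ RingHom.ker ψ₀ := by
    intro g hg
    have h0 : g.1.1 = 0 := hg
    have h1 : e₀.q g.1.2 = 0 := by rw [← diffG_prop, h0, map_zero]
    obtain ⟨z, hz⟩ := e₀.exists_of_q_eq_zero h1
    rw [RingHom.mem_ker]
    show Ideal.Quotient.mk _ _ = 0
    rw [Ideal.Quotient.eq_zero_iff_mem, mem_sumD]
    refine ⟨z, ?_⟩
    show ((g.1.2, diffMk eC' e₀ e g) :
        e₀.R' × (JExt.diff eC' eC hpe hp hπ hπa hkerπ e₀ e hC ha).E) =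
      (e₀.ι z, - diffIncl eC' e₀ e z)
    refine Prod.ext hz.symm ?_
    show diffMk eC' e₀ e g = - diffIncl eC' e₀ e z
    rw [← diffMk_ι₀]
    congr 1
    exact Subtype.ext (Prod.ext h0 hz.symm)
  let ψ : e.R' →+* SumR e₀ (JExt.diff eC' eC hpe hp hπ hπa hkerπ e₀ e hC ha) :=
    RingHom.liftOfSurjective fstG hfst ⟨ψ₀, hker⟩
  have hψ : ∀ g, ψ (fstG g) = ψ₀ g := fun g =>
    RingHom.liftOfRightInverse_comp_apply fstG _ _ ⟨ψ₀, hker⟩ g
  have hψa : ∀ c, ψ (e.a' c) =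
      (JExt.sum eC' eC hpe hπa e₀ (JExt.diff eC' eC hpe hp hπ hπa hkerπ e₀ e hC ha)).a' c := by
    intro c
    have h1 : e.a' c = fstG (diffA e₀ e c) := rfl
    rw [h1, hψ]
    show Ideal.Quotient.mk _ _ = Ideal.Quotient.mk _ _
    congr 1
    apply Subtype.ext
    show ((e₀.a' c, diffMk eC' e₀ e (diffA e₀ e c)) :
        e₀.R' × (JExt.diff eC' eC hpe hp hπ hπa hkerπ e₀ e hC ha).E) =
      (e₀.a' c, algebraMap k (DiffE eC' e₀ e) (eC' c))
    refine Prod.ext rfl ?_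
    show diffMk eC' e₀ e (diffA e₀ e c) = algebraMap k (DiffE eC' e₀ e) (eC' c)
    rw [diffE_algebraMap, ← sub_eq_zero, ← map_sub, ← map_sub, diffMk_eq_zero_iff]
    refine Ideal.mem_sup_right (Ideal.mem_map_of_mem _ ?_)
    rw [RingHom.mem_ker]
    show eC' (c - algebraMap k C' (eC' c)) = 0
    rw [map_sub, AlgHom.commutes, sub_eq_zero]
    rfl
  have hψq : ∀ x,
      (JExt.sum eC' eC hpe hπa e₀ (JExt.diff eC' eC hpe hp hπ hπa hkerπ e₀ e hC ha)).q (ψ x) =
        e.q x := by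
    intro x
    obtain ⟨g, rfl⟩ := hfst x
    rw [hψ]
    show e₀.q g.1.2 = e.q g.1.1
    exact (diffG_prop e₀ e g).symm
  have hψι := JExt.hom_ι (e := e)
    (e' := JExt.sum eC' eC hpe hπa e₀ (JExt.diff eC' eC hpe hp hπ hπa hkerπ e₀ e hC ha))
    hπ ψ hψa hψq
  exact (JExt.equivalent_of_hom (e := e)
    (e' := JExt.sum eC' eC hpe hπa e₀ (JExt.diff eC' eC hpe hp hπ hπa hkerπ e₀ e hC ha))
    ψ hψa hψq hψι).symm

end Groth.Agent.Lib.Helper97.DefTors
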