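import Groth.Agent.Lib.Helper97.DefTors.Flat

/-!
# The extension attached to a flat lift of a deformation
-/

set_option autoImplicit false

namespace Groth.Agent.Lib.Helper97.DefTors

open TensorProduct

universe u

variable {k : Type u} [Field k] {C' C : Type u} [CommRing C'] [CommRing C] [Algebra k C']
  [Algebra k C] {p : C' →ₐ[k] C}
  {B₀ : Type u} [CommRing B₀] [Algebra k B₀]
  {R : Type u} [CommRing R] {a : C →+* R} {π : R →+* B₀}
  (eC' : C' →ₐ[k] k)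
  (hJ : ∀ c ∈ RingHom.ker eC'.toRingHom, ∀ j ∈ RingHom.ker p, c * j = 0)
  {R₁ : Type u} [CommRing R₁] (a₁ : C' →+* R₁) (π₁ : R₁ →+* B₀) (q₁ : R₁ →+* R)
  (hπ₁ : Function.Surjective π₁)
  (hkerπ₁ : RingHom.ker π₁ = (RingHom.ker eC'.toRingHom).map a₁)
  (hπ₁a : ∀ c, π₁ (a₁ c) = algebraMap k B₀ (eC' c))
  (hq₁ : Function.Surjective q₁)
  (hkerq₁ : RingHom.ker q₁ = (RingHom.ker (p : C' →+* C)).map a₁)
  (hq₁a : ∀ c, q₁ (a₁ c) = a (p c)) (hπq : ∀ y, π (q₁ y) = π₁ y)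

include hJ hkerπ₁ in
lemma a₁_mul_eq_zero (j : C') (hj : j ∈ RingHom.ker p) (y : R₁) (hy : π₁ y = 0) :
    a₁ j * y = 0 := by
  have hy' : y ∈ (RingHom.ker eC'.toRingHom).map a₁ := by rw [← hkerπ₁]; exact hy
  refine Submodule.span_induction (p := fun y _ => a₁ j * y = 0) ?_ ?_ ?_ ?_ hy'
  · rintro _ ⟨c, hc, rfl⟩
    rw [← map_mul, mul_comm, hJ c hc j hj, map_zero]
  · exact mul_zero _
  · intro u v _ _ hu hv
    rw [mul_add, hu, hv, add_zero]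
  · intro r u _ hu
    rw [smul_eq_mul, mul_left_comm, hu, mul_zero]

include hJ hkerπ₁ in
lemma a₁_mul_congr (j : C') (hj : j ∈ RingHom.ker p) (y y' : R₁) (h : π₁ y = π₁ y') :
    a₁ j * y = a₁ j * y' := by
  have := a₁_mul_eq_zero eC' hJ a₁ π₁ hkerπ₁ j hj (y - y') (by rw [map_sub, h, sub_self])
  rw [mul_sub, sub_eq_zero] at this
  exact this

/-- The kernel map `b ⊗ j ↦ j · (lift of b)`. -/
noncomputable def ιOf : (B₀ ⊗[k] ↥(RingHom.ker p)) →+ R₁ :=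
  TensorProduct.liftAddHom
    (AddMonoidHom.mk' (fun b => AddMonoidHom.mk'
        (fun j : ↥(RingHom.ker p) => a₁ j * Function.surjInv hπ₁ b) (by
          intro j j'
          show a₁ ((j + j' : ↥(RingHom.ker p)) : C') * _ = _
          rw [Submodule.coe_add, map_add, add_mul])) (by
      intro b b'
      ext j
      show a₁ j * Function.surjInv hπ₁ (b + b') =
        a₁ j * Function.surjInv hπ₁ b + a₁ j * Function.surjInv hπ₁ b'
      rw [← mul_add]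
      apply a₁_mul_congr eC' hJ a₁ π₁ hkerπ₁ j j.2
      rw [map_add, Function.surjInv_eq hπ₁, Function.surjInv_eq hπ₁, Function.surjInv_eq hπ₁]))
    (by
      intro κ b j
      show a₁ j * Function.surjInv hπ₁ (κ • b) =
        a₁ ((κ • j : ↥(RingHom.ker p)) : C') * Function.surjInv hπ₁ b
      have h1 : ((κ • j : ↥(RingHom.ker p)) : C') = algebraMap k C' κ * j := by
        rw [Submodule.coe_smul_of_tower, Algebra.smul_def]
      rw [h1, map_mul, mul_comm (a₁ _) (a₁ j), mul_assoc]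
      apply a₁_mul_congr eC' hJ a₁ π₁ hkerπ₁ j j.2
      rw [map_mul, Function.surjInv_eq hπ₁, Function.surjInv_eq hπ₁, hπ₁a, AlgHom.commutes,
        Algebra.smul_def]
      rfl)

include hJ hkerπ₁ in
lemma ιOf_tmul (x : R₁) (j : ↥(RingHom.ker p)) :
    ιOf eC' hJ a₁ π₁ hπ₁ hkerπ₁ hπ₁a (π₁ x ⊗ₜ j) = a₁ j * x := by
  show a₁ j * Function.surjInv hπ₁ (π₁ x) = a₁ j * x
  apply a₁_mul_congr eC' hJ a₁ π₁ hkerπ₁ j j.2
  rw [Function.surjInv_eq hπ₁]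

lemma ιOf_tmul' (b : B₀) (j : ↥(RingHom.ker p)) :
    ιOf eC' hJ a₁ π₁ hπ₁ hkerπ₁ hπ₁a (b ⊗ₜ j) = a₁ j * Function.surjInv hπ₁ b := rfl

lemma mul_ιOf (x : R₁) (z : B₀ ⊗[k] ↥(RingHom.ker p)) :
    x * ιOf eC' hJ a₁ π₁ hπ₁ hkerπ₁ hπ₁a z = ιOf eC' hJ a₁ π₁ hπ₁ hkerπ₁ hπ₁a (π₁ x • z) := by
  induction z using TensorProduct.induction_on with
  | zero => rw [map_zero, mul_zero, smul_zero, map_zero]
  | add u v hu hv => rw [map_add, mul_add, hu, hv, smul_add, map_add]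
  | tmul b j =>
    rw [TensorProduct.smul_tmul', smul_eq_mul, ιOf_tmul', ιOf_tmul', mul_left_comm]
    apply a₁_mul_congr eC' hJ a₁ π₁ hkerπ₁ j j.2
    rw [map_mul, Function.surjInv_eq hπ₁, Function.surjInv_eq hπ₁]

include hq₁a in
lemma q₁_ιOf (z : B₀ ⊗[k] ↥(RingHom.ker p)) :
    q₁ (ιOf eC' hJ a₁ π₁ hπ₁ hkerπ₁ hπ₁a z) = 0 := by
  induction z using TensorProduct.induction_on with
  | zero => rw [map_zero, map_zero]
  | add u v hu hv => rw [map_add, map_add, hu, hv, add_zero]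
  | tmul b j =>
    rw [ιOf_tmul', map_mul, hq₁a]
    have : p (j : C') = 0 := j.2
    rw [this, map_zero, zero_mul]

include hkerq₁ in
lemma exists_ιOf_eq (x : R₁) (hx : q₁ x = 0) :
    ∃ z, ιOf eC' hJ a₁ π₁ hπ₁ hkerπ₁ hπ₁a z = x := by
  have hx' : x ∈ (RingHom.ker (p : C' →+* C)).map a₁ := by rw [← hkerq₁]; exact hx
  refine Submodule.span_induction
    (p := fun x _ => ∃ z, ιOf eC' hJ a₁ π₁ hπ₁ hkerπ₁ hπ₁a z = x) ?_ ?_ ?_ ?_ hx'
  · rintro _ ⟨j, hj, rfl⟩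
    refine ⟨π₁ 1 ⊗ₜ ⟨j, hj⟩, ?_⟩
    rw [ιOf_tmul, mul_one]
  · exact ⟨0, map_zero _⟩
  · rintro u v _ _ ⟨z, rfl⟩ ⟨z', rfl⟩
    exact ⟨z + z', map_add _ _ _⟩
  · rintro r u _ ⟨z, rfl⟩
    exact ⟨π₁ r • z, by rw [smul_eq_mul, mul_ιOf]⟩

include hπ₁ in
/-- Injectivity of the kernel map, from flatness. -/
lemma ιOf_injective [IsLocalRing C'] (hC' : IsNilpotent (IsLocalRing.maximalIdeal C'))
    (hflat : a₁.Flat) : Function.Injective (ιOf eC' hJ a₁ π₁ hπ₁ hkerπ₁ hπ₁a) := by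
  classical
  letI : Algebra C' R₁ := a₁.toAlgebra
  haveI : Module.Flat C' R₁ := hflat
  haveI : Module.Free C' R₁ := Groth.Agent.Lib.Helper6.NilpNakayama.free_of_flat_of_nilpotent hC'
  let v := Module.Free.chooseBasis C' R₁
  have hspan : Submodule.span k (Set.range (fun l => π₁ (v l))) = ⊤ := by
    rw [eq_top_iff]
    intro b _
    obtain ⟨y, rfl⟩ := hπ₁ b
    rw [← Finsupp.range_linearCombination]
    refine ⟨(v.repr y).mapRange eC' (map_zero eC'), ?_⟩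
    have := π_linearCombination (a := a₁) (π := π₁) eC' hπ₁a v (v.repr y)
    rw [v.linearCombination_repr] at this
    exact this.symm
  rw [injective_iff_map_eq_zero]
  intro z hz
  obtain ⟨y, rfl⟩ := tensG_surjective k ↥(RingHom.ker p) _ hspan z
  have h1 := ι_tensG_gen a₁ π₁ (ιOf eC' hJ a₁ π₁ hπ₁ hkerπ₁ hπ₁a)
    (ιOf_tmul eC' hJ a₁ π₁ hπ₁ hkerπ₁ hπ₁a) v y
  rw [sum_eq_linearCombination, hz] at h1
  have h2 : y.mapRange Subtype.val rfl = 0 :=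
    (LinearMap.ker_eq_bot.mpr v.linearIndependent).le h1.symm |> fun h => by simpa using h
  have h3 : y = 0 := by
    ext l
    have := DFunLike.congr_fun h2 l
    rw [Finsupp.mapRange_apply] at this
    exact congrArg Subtype.val (Subtype.ext this : y l = 0)
  rw [h3, map_zero]

include hq₁ hkerq₁ hq₁a hπq in
/-- The extension attached to a flat lift. -/
noncomputable def JExt.ofData [IsLocalRing C'] (hC' : IsNilpotent (IsLocalRing.maximalIdeal C'))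
    (hflat : a₁.Flat) : JExt p a π where
  R' := R₁
  a' := a₁
  q := q₁
  ι := ιOf eC' hJ a₁ π₁ hπ₁ hkerπ₁ hπ₁a
  q_surj := hq₁
  ι_inj := ιOf_injective eC' hJ a₁ π₁ hπ₁ hkerπ₁ hπ₁a hC' hflat
  exact := fun x => ⟨fun hx => exists_ιOf_eq eC' hJ a₁ π₁ q₁ hπ₁ hkerπ₁ hπ₁a hkerq₁ x hx,
    fun ⟨z, hz⟩ => by rw [← hz]; exact q₁_ιOf eC' hJ a₁ π₁ q₁ hπ₁ hkerπ₁ hπ₁a hq₁a z⟩
  mul_ι := fun x z => by rw [mul_ιOf, hπq]
  q_a' := hq₁a
  a'_J := fun j => by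
    have := ιOf_tmul eC' hJ a₁ π₁ hπ₁ hkerπ₁ hπ₁a 1 j
    rw [map_one, mul_one] at this
    exact this.symm

end Groth.Agent.Lib.Helper97.DefTors
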