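import Groth.Agent.Lib.Helper97.DefTors.SpecPB
import Groth.Agent.Lib.Helper97.DefTors.OfData
import Groth.Agent.Lib.Helper97.DefTors.Diff3

/-!
# Extensions of an affine deformation and extensions of its ring data
-/

set_option autoImplicit false

namespace Groth.Agent.Lib.Helper97.DefTors

open CategoryTheory CategoryTheory.Limits AlgebraicGeometry
open Groth.Agent.Lib.Helper97.DefAff Groth.Agent.Lib.Helper97.DefLift
open TensorProduct

universe u

/-- Deformations of `Spec B₀` over `A`. -/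
abbrev Def (k : Type u) [Field k] (B₀ : Type u) [CommRing B₀] [Algebra k B₀]
    (A : ArtFun.Art k k) : Type (u + 1) :=
  ArtFun.DefSch (Spec (CommRingCat.of B₀)) (Spec.map (CommRingCat.ofHom (algebraMap k B₀))) A

variable {k : Type u} [Field k] {B₀ : Type u} [CommRing B₀] [Algebra k B₀]
  {C' C : ArtFun.Art k k} (p : C' ⟶ C) (hp : ArtFun.Art.IsSemismallExt p)

include hp in
lemma hJ_of_semismall :
    ∀ c ∈ RingHom.ker C'.res.toRingHom, ∀ j ∈ RingHom.ker p.toAlgHom, c * j = 0 := by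
  intro c hc j hj
  have h1 : c ∈ IsLocalRing.maximalIdeal C'.carrier := by
    rw [← ker_eq_maximalIdeal C'.res]
    exact hc
  have h2 : c * j ∈ IsLocalRing.maximalIdeal C'.carrier * RingHom.ker p.toAlgHom :=
    Ideal.mul_mem_mul h1 hj
  rw [hp.2] at h2
  exact h2

lemma JExt.ker_q {k : Type u} [Field k] {C' C : Type u} [CommRing C'] [CommRing C]
    [Algebra k C'] [Algebra k C] {p : C' →ₐ[k] C} {B₀ : Type u} [CommRing B₀] [Algebra k B₀]
    {R : Type u} [CommRing R] {a : C →+* R} {π : R →+* B₀} (hπ : Function.Surjective π)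
    (e : JExt p a π) : RingHom.ker e.q = (RingHom.ker p.toRingHom).map e.a' := by
  apply le_antisymm
  · intro x hx
    obtain ⟨z, rfl⟩ := e.exists_of_q_eq_zero hx
    exact e.ι_mem_map hπ z
  · rw [Ideal.map_le_iff_le_comap]
    intro j hj
    rw [Ideal.mem_comap, RingHom.mem_ker, e.q_a']
    have : p j = 0 := hj
    rw [this, map_zero]

/-- The ring data over `C'` of an extension. -/
noncomputable def JExt.toAlgData (d : AlgData C B₀) (e : JExt p.toAlgHom d.a d.π) :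
    AlgData C' B₀ where
  R := e.R'
  a := e.a'
  π := d.π.comp e.q
  flat := JExt.flat C'.res C.res p.res_comp hp.1 d.π_surj d.π_a d.ker_π (hJ_of_semismall p hp)
    isNilpotent_maximalIdeal d.flat e
  π_surj := d.π_surj.comp e.q_surj
  ker_π := e.ker_π_q C'.res C.res p.res_comp hp.1 d.π_surj d.π_a d.ker_π
  π_a := e.π_q_a' C'.res C.res p.res_comp d.π_a

variable (𝒳 : Def k B₀ C)

/-- Extensions of a deformation to `C'`. -/
abbrev Pair : Type (u + 1) := Σ 𝒳' : Def k B₀ C', (𝒳'.baseChange p).Iso 𝒳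

/-- The morphism from the deformation to an extension of it. -/
noncomputable def uMap (x : Pair p 𝒳) : 𝒳.total ⟶ x.1.total :=
  x.2.iso.inv ≫ pullback.fst x.1.f (ArtFun.Art.specMap p)

lemma inv_snd (x : Pair p 𝒳) :
    x.2.iso.inv ≫ pullback.snd x.1.f (ArtFun.Art.specMap p) = 𝒳.f := x.2.symm.hom_f

lemma uMap_f (x : Pair p 𝒳) : uMap p 𝒳 x ≫ x.1.f = 𝒳.f ≫ ArtFun.Art.specMap p := by
  rw [uMap, Category.assoc, pullback.condition, ← Category.assoc, inv_snd]

lemma i_uMap (x : Pair p 𝒳) : 𝒳.i ≫ uMap p 𝒳 x = x.1.i := by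
  rw [uMap, ← Category.assoc]
  have : 𝒳.i ≫ x.2.iso.inv = (x.1.baseChange p).i := x.2.symm.i_hom
  rw [this]
  exact ArtFun.DefSch.baseChange_i_fst x.1 p

lemma isPullback_uMap (x : Pair p 𝒳) :
    IsPullback (uMap p 𝒳 x) 𝒳.f x.1.f (ArtFun.Art.specMap p) :=
  IsPullback.of_iso_pullback ⟨uMap_f p 𝒳 x⟩ x.2.iso.symm rfl (inv_snd p 𝒳 x)

lemma rel_of_uMap (x y : Pair p 𝒳) (ψ : x.1.Iso y.1)
    (h : uMap p 𝒳 x ≫ ψ.iso.hom = uMap p 𝒳 y) :
    ((ψ.baseChange p).trans y.2).iso = x.2.iso := by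
  apply Iso.ext
  show (ψ.baseChange p).iso.hom ≫ y.2.iso.hom = x.2.iso.hom
  rw [← Iso.eq_comp_inv]
  apply pullback.hom_ext
  · show ArtFun.DefSch.pullMap ψ.iso.hom ψ.hom_f p ≫ pullback.fst _ _ = _
    rw [ArtFun.DefSch.pullMap_fst, Category.assoc]
    have h1 : y.2.iso.inv ≫ pullback.fst y.1.f (ArtFun.Art.specMap p) = uMap p 𝒳 y := rfl
    rw [h1, ← h, uMap, Category.assoc, Iso.hom_inv_id_assoc]
  · show ArtFun.DefSch.pullMap ψ.iso.hom ψ.hom_f p ≫ pullback.snd _ _ = _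
    rw [ArtFun.DefSch.pullMap_snd, Category.assoc, inv_snd]
    exact x.2.hom_f.symm

lemma uMap_of_rel (x y : Pair p 𝒳) (ψ : x.1.Iso y.1)
    (h : ((ψ.baseChange p).trans y.2).iso = x.2.iso) :
    uMap p 𝒳 x ≫ ψ.iso.hom = uMap p 𝒳 y := by
  have h1 : x.2.iso.inv = y.2.iso.inv ≫ (ψ.baseChange p).iso.inv := by
    rw [← h]
    rfl
  have h2 : (ψ.baseChange p).iso.inv ≫ pullback.fst x.1.f (ArtFun.Art.specMap p) =
      pullback.fst y.1.f (ArtFun.Art.specMap p) ≫ ψ.iso.inv :=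
    ArtFun.DefSch.pullMap_fst ψ.iso.inv ψ.symm.hom_f p
  rw [uMap, h1, Category.assoc, Category.assoc, ← Category.assoc _ _ ψ.iso.hom, h2,
    Category.assoc, Iso.inv_hom_id, Category.comp_id]
  rfl

variable (d : AlgData C B₀) (θ : (ofAlg d).Iso 𝒳)

/-- The morphism of spectra of the reduction map of an extension. -/
noncomputable def qS (e : JExt p.toAlgHom d.a d.π) :
    (ofAlg d).total ⟶ (ofAlg (JExt.toAlgData p hp d e)).total :=
  Spec.map (CommRingCat.ofHom e.q)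

/-- The pair `x` is represented by the ring-level extension `e`. -/
def Rep (x : Pair p 𝒳) (e : JExt p.toAlgHom d.a d.π) : Prop :=
  ∃ ψ : (ofAlg (JExt.toAlgData p hp d e)).Iso x.1,
    θ.iso.hom ≫ uMap p 𝒳 x = qS p hp d e ≫ ψ.iso.hom

/-- Every ring-level extension represents a pair. -/
theorem exists_pair_rep (e : JExt p.toAlgHom d.a d.π) : ∃ x : Pair p 𝒳, Rep p hp 𝒳 d θ x e := by
  obtain ⟨β, hβ⟩ := exists_baseChange_iso p (JExt.toAlgData p hp d e) d e.q e.q_surj hp.1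
    (JExt.ker_q d.π_surj e) e.q_a' (fun x => rfl)
  refine ⟨⟨ofAlg (JExt.toAlgData p hp d e), β.trans θ⟩, ⟨ArtFun.DefSch.Iso.refl _, ?_⟩⟩
  show θ.iso.hom ≫ ((θ.iso.inv ≫ β.iso.inv) ≫ pullback.fst _ _) = qS p hp d e ≫ 𝟙 _
  rw [Category.comp_id, Category.assoc, hβ, Iso.hom_inv_id_assoc]
  rfl

end Groth.Agent.Lib.Helper97.DefTors
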