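import Groth.Agent.Lib.Helper97.DefTors.Dict

/-!
# Extensions of an affine deformation and extensions of its ring data, II
-/

set_option autoImplicit false

namespace Groth.Agent.Lib.Helper97.DefTors

open CategoryTheory CategoryTheory.Limits AlgebraicGeometry
open Groth.Agent.Lib.Helper97.DefAff Groth.Agent.Lib.Helper97.DefLift
open TensorProduct

universe u

variable {k : Type u} [Field k] {B₀ : Type u} [CommRing B₀] [Algebra k B₀]
  {C' C : ArtFun.Art k k} (p : C' ⟶ C) (hp : ArtFun.Art.IsSemismallExt p)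
  (𝒳 : Def k B₀ C) (d : AlgData C B₀) (θ : (ofAlg d).Iso 𝒳)

/-- Every pair is represented by a ring-level extension. -/
theorem exists_rep (x : Pair p 𝒳) : ∃ e : JExt p.toAlgHom d.a d.π, Rep p hp 𝒳 d θ x e := by
  obtain ⟨d₁, ⟨ψ₁⟩⟩ := exists_algData_iso x.1
  let v : Spec (CommRingCat.of d.R) ⟶ Spec (CommRingCat.of d₁.R) :=
    θ.iso.hom ≫ uMap p 𝒳 x ≫ ψ₁.iso.inv
  let q₁ : d₁.R →+* d.R := (Spec.preimage v).hom
  have hq₁ : Spec.map (CommRingCat.ofHom q₁) = v := by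
    show Spec.map (CommRingCat.ofHom (Spec.preimage v).hom) = v
    rw [CommRingCat.ofHom_hom, Spec.map_preimage]
  have hvf : v ≫ (ofAlg d₁).f = (ofAlg d).f ≫ ArtFun.Art.specMap p := by
    have h1 : ψ₁.iso.inv ≫ (ofAlg d₁).f = x.1.f := ψ₁.symm.hom_f
    show (θ.iso.hom ≫ uMap p 𝒳 x ≫ ψ₁.iso.inv) ≫ (ofAlg d₁).f = _
    rw [Category.assoc, Category.assoc, h1, uMap_f, ← Category.assoc, θ.hom_f]
  have hiv : (ofAlg d).i ≫ v = (ofAlg d₁).i := by
    have h1 : x.1.i ≫ ψ₁.iso.inv = (ofAlg d₁).i := ψ₁.symm.i_hom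
    show (ofAlg d).i ≫ (θ.iso.hom ≫ uMap p 𝒳 x ≫ ψ₁.iso.inv) = _
    rw [← Category.assoc, θ.i_hom, ← Category.assoc, i_uMap, h1]
  have hpb : IsPullback v (ofAlg d).f (ofAlg d₁).f (ArtFun.Art.specMap p) := by
    refine (isPullback_uMap p 𝒳 x).of_iso θ.iso.symm ψ₁.iso.symm (Iso.refl _) (Iso.refl _)
      ?_ ?_ ?_ ?_
    · show uMap p 𝒳 x ≫ ψ₁.iso.inv = θ.iso.inv ≫ (θ.iso.hom ≫ uMap p 𝒳 x ≫ ψ₁.iso.inv)
      rw [Iso.inv_hom_id_assoc]
    · show 𝒳.f ≫ 𝟙 _ = θ.iso.inv ≫ (ofAlg d).f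
      rw [Category.comp_id]
      exact θ.symm.hom_f.symm
    · show x.1.f ≫ 𝟙 _ = ψ₁.iso.inv ≫ (ofAlg d₁).f
      rw [Category.comp_id]
      exact ψ₁.symm.hom_f.symm
    · show ArtFun.Art.specMap p ≫ 𝟙 _ = 𝟙 _ ≫ ArtFun.Art.specMap p
      rw [Category.comp_id, Category.id_comp]
  have hpb' : IsPullback (Spec.map (CommRingCat.ofHom q₁)) (Spec.map (CommRingCat.ofHom d.a))
      (Spec.map (CommRingCat.ofHom d₁.a))
      (Spec.map (CommRingCat.ofHom p.toAlgHom.toRingHom)) := by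
    rw [hq₁]
    exact hpb
  obtain ⟨hq₁s, hq₁k⟩ := surjective_and_ker_of_isPullback p.toAlgHom.toRingHom d.a d₁.a q₁
    hp.1 hpb'
  have hq₁a : ∀ c, q₁ (d₁.a c) = d.a (p.toAlgHom c) := by
    intro c
    have hw := hpb'.w
    rw [← Spec.map_comp, ← Spec.map_comp] at hw
    have := Spec.map_injective hw
    exact congrArg (fun f => f.hom c) this
  have hπq : ∀ y, d.π (q₁ y) = d₁.π y := by
    intro y
    have hw : Spec.map (CommRingCat.ofHom d.π) ≫ Spec.map (CommRingCat.ofHom q₁) =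
        Spec.map (CommRingCat.ofHom d₁.π) := by
      rw [hq₁]
      exact hiv
    rw [← Spec.map_comp] at hw
    have := Spec.map_injective hw
    exact congrArg (fun f => f.hom y) this
  let e : JExt p.toAlgHom d.a d.π := JExt.ofData C'.res (hJ_of_semismall p hp) d₁.a d₁.π q₁
    d₁.π_surj d₁.ker_π d₁.π_a hq₁s hq₁k hq₁a hπq isNilpotent_maximalIdeal d₁.flat
  have hπeq : d.π.comp q₁ = d₁.π := RingHom.ext hπq
  let ψ : (ofAlg (JExt.toAlgData p hp d e)).Iso x.1 :=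
    { iso := ψ₁.iso
      hom_f := ψ₁.hom_f
      i_hom := by
        show Spec.map (CommRingCat.ofHom (d.π.comp q₁)) ≫ ψ₁.iso.hom = x.1.i
        rw [hπeq]
        exact ψ₁.i_hom }
  refine ⟨e, ψ, ?_⟩
  show θ.iso.hom ≫ uMap p 𝒳 x = Spec.map (CommRingCat.ofHom q₁) ≫ ψ₁.iso.hom
  rw [hq₁]
  show θ.iso.hom ≫ uMap p 𝒳 x = (θ.iso.hom ≫ uMap p 𝒳 x ≫ ψ₁.iso.inv) ≫ ψ₁.iso.hom
  rw [Category.assoc, Category.assoc, Iso.inv_hom_id, Category.comp_id]

/-- Representatives of pairs related by a morphism are equivalent. -/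
theorem equivalent_of_rep (x x' : Pair p 𝒳) (e e' : JExt p.toAlgHom d.a d.π)
    (hx : Rep p hp 𝒳 d θ x e) (hx' : Rep p hp 𝒳 d θ x' e')
    (g : x.1.total ⟶ x'.1.total) (hgf : g ≫ x'.1.f = x.1.f)
    (hgu : uMap p 𝒳 x ≫ g = uMap p 𝒳 x') : e.Equivalent e' := by
  obtain ⟨ψ, hψ⟩ := hx
  obtain ⟨ψ', hψ'⟩ := hx'
  let Ξ : Spec (CommRingCat.of e.R') ⟶ Spec (CommRingCat.of e'.R') :=
    ψ.iso.hom ≫ g ≫ ψ'.iso.inv
  let χ : e'.R' →+* e.R' := (Spec.preimage Ξ).hom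
  have hχ : Spec.map (CommRingCat.ofHom χ) = Ξ := by
    show Spec.map (CommRingCat.ofHom (Spec.preimage Ξ).hom) = Ξ
    rw [CommRingCat.ofHom_hom, Spec.map_preimage]
  have hχa : ∀ c, χ (e'.a' c) = e.a' c := by
    intro c
    have hw : Spec.map (CommRingCat.ofHom χ) ≫ Spec.map (CommRingCat.ofHom e'.a') =
        Spec.map (CommRingCat.ofHom e.a') := by
      rw [hχ]
      have h1 : ψ'.iso.inv ≫ (ofAlg (JExt.toAlgData p hp d e')).f = x'.1.f := ψ'.symm.hom_f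
      show (ψ.iso.hom ≫ g ≫ ψ'.iso.inv) ≫ (ofAlg (JExt.toAlgData p hp d e')).f =
        (ofAlg (JExt.toAlgData p hp d e)).f
      rw [Category.assoc, Category.assoc, h1, hgf, ψ.hom_f]
    rw [← Spec.map_comp] at hw
    have := Spec.map_injective hw
    exact congrArg (fun f => f.hom c) this
  have hχq : ∀ y, e.q (χ y) = e'.q y := by
    intro y
    have hw : Spec.map (CommRingCat.ofHom e.q) ≫ Spec.map (CommRingCat.ofHom χ) =
        Spec.map (CommRingCat.ofHom e'.q) := by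
      rw [hχ]
      show qS p hp d e ≫ (ψ.iso.hom ≫ g ≫ ψ'.iso.inv) = qS p hp d e'
      rw [← Category.assoc, ← hψ, Category.assoc, ← Category.assoc (uMap p 𝒳 x), hgu,
        ← Category.assoc, hψ', Category.assoc, Iso.hom_inv_id, Category.comp_id]
    rw [← Spec.map_comp] at hw
    have := Spec.map_injective hw
    exact congrArg (fun f => f.hom y) this
  have hχι := JExt.hom_ι (e := e') (e' := e) d.π_surj χ hχa hχq
  exact (JExt.equivalent_of_hom (e := e') (e' := e) χ hχa hχq hχι).symm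

/-- Equivalent representatives come from related pairs. -/
theorem rel_of_equivalent (x x' : Pair p 𝒳) (e e' : JExt p.toAlgHom d.a d.π)
    (hx : Rep p hp 𝒳 d θ x e) (hx' : Rep p hp 𝒳 d θ x' e') (h : e.Equivalent e') :
    ∃ ψ : x.1.Iso x'.1, ((ψ.baseChange p).trans x'.2).iso = x.2.iso := by
  obtain ⟨ψ, hψ⟩ := hx
  obtain ⟨ψ', hψ'⟩ := hx'
  obtain ⟨φ, hφa, hφq⟩ := h
  let Φ := isoOfRingEquiv (JExt.toAlgData p hp d e) (JExt.toAlgData p hp d e') φ hφa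
    (fun y => by
      show d.π (e'.q (φ y)) = d.π (e.q y)
      rw [hφq])
  have hΦ : Φ.iso.hom = (Spec.map (CommRingCat.ofHom (φ.symm : e'.R' →+* e.R')) :
      (ofAlg (JExt.toAlgData p hp d e)).total ⟶ (ofAlg (JExt.toAlgData p hp d e')).total) := rfl
  refine ⟨ψ.symm.trans (Φ.trans ψ'), rel_of_uMap p 𝒳 x x' _ ?_⟩
  show uMap p 𝒳 x ≫ (ψ.iso.inv ≫ (Φ.iso.hom ≫ ψ'.iso.hom)) = uMap p 𝒳 x'
  have h1 : uMap p 𝒳 x ≫ ψ.iso.inv = θ.iso.inv ≫ qS p hp d e := by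
    rw [Iso.eq_inv_comp, ← Category.assoc, hψ, Category.assoc, Iso.hom_inv_id, Category.comp_id]
  have h2 : qS p hp d e ≫ Φ.iso.hom = qS p hp d e' := by
    rw [hΦ]
    show Spec.map (CommRingCat.ofHom e.q) ≫ Spec.map (CommRingCat.ofHom (φ.symm : e'.R' →+* e.R'))
      = Spec.map (CommRingCat.ofHom e'.q)
    rw [← Spec.map_comp, ← CommRingCat.ofHom_comp]
    congr 2
    refine RingHom.ext fun y => ?_
    show e.q (φ.symm y) = e'.q y
    rw [← hφq, RingEquiv.apply_symm_apply]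
  rw [← Category.assoc, h1, Category.assoc, ← Category.assoc (qS p hp d e), h2, ← hψ',
    Iso.inv_hom_id_assoc]

end Groth.Agent.Lib.Helper97.DefTors
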