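import Groth.Agent.Lib.Helper97.DefTors.JExt

/-!
# The kernel of the reduction of an extension to the closed fibre
-/

set_option autoImplicit false

namespace Groth.Agent.Lib.Helper97.DefTors

open TensorProduct

universe u

variable {k : Type u} [Field k] {C' C : Type u} [CommRing C'] [CommRing C] [Algebra k C']
  [Algebra k C] {p : C' →ₐ[k] C}
  {B₀ : Type u} [CommRing B₀] [Algebra k B₀]
  {R : Type u} [CommRing R] {a : C →+* R} {π : R →+* B₀}
  (eC' : C' →ₐ[k] k) (eC : C →ₐ[k] k) (hpe : eC.comp p = eC')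
  (hp : Function.Surjective p)
  (hπ : Function.Surjective π)
  (hπa : ∀ c, π (a c) = algebraMap k B₀ (eC c))
  (hkerπ : RingHom.ker π = (RingHom.ker eC.toRingHom).map a)
  (e : JExt p a π)

namespace JExt

include hpe in
lemma eC_p (c : C') : eC (p c) = eC' c := congrArg (fun f => f c) hpe

include hpe in
lemma ker_p_le : RingHom.ker p ≤ RingHom.ker eC'.toRingHom := by
  intro j hj
  rw [RingHom.mem_ker] at hj ⊢
  show eC' j = 0
  rw [← eC_p eC' eC hpe, hj, map_zero]

include hπ in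
lemma ι_mem_map (z : B₀ ⊗[k] ↥(RingHom.ker p)) : e.ι z ∈ (RingHom.ker p).map e.a' := by
  induction z using TensorProduct.induction_on with
  | zero => rw [map_zero]; exact Ideal.zero_mem _
  | add x y hx hy => rw [map_add]; exact Ideal.add_mem _ hx hy
  | tmul b j =>
    obtain ⟨r, rfl⟩ := hπ b
    obtain ⟨x, rfl⟩ := e.q_surj r
    rw [e.ι_tmul]
    exact Ideal.mul_mem_right _ _ (Ideal.mem_map_of_mem _ j.2)

include hpe hπa in
lemma π_q_a' (c : C') : π (e.q (e.a' c)) = algebraMap k B₀ (eC' c) := by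
  rw [e.q_a', hπa, eC_p eC' eC hpe]

include hpe hp hπ hπa hkerπ in
/-- The kernel of `R' → B₀` is generated by the maximal ideal of `C'`. -/
theorem ker_π_q : RingHom.ker (π.comp e.q) = (RingHom.ker eC'.toRingHom).map e.a' := by
  apply le_antisymm
  · intro x hx
    have h1 : e.q x ∈ (RingHom.ker eC.toRingHom).map a := by
      rw [← hkerπ]
      exact hx
    have claim : ∀ r ∈ (RingHom.ker eC.toRingHom).map a,
        ∃ x' ∈ (RingHom.ker eC'.toRingHom).map e.a', e.q x' = r := by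
      intro r hr
      refine Submodule.span_induction (p := fun r _ =>
        ∃ x' ∈ (RingHom.ker eC'.toRingHom).map e.a', e.q x' = r) ?_ ?_ ?_ ?_ hr
      · rintro _ ⟨cb, hcb, rfl⟩
        obtain ⟨c, rfl⟩ := hp cb
        refine ⟨e.a' c, Ideal.mem_map_of_mem _ ?_, e.q_a' c⟩
        rw [RingHom.mem_ker]
        show eC' c = 0
        rw [← eC_p eC' eC hpe]
        exact hcb
      · exact ⟨0, Ideal.zero_mem _, map_zero _⟩
      · rintro r₁ r₂ _ _ ⟨x₁, h1, rfl⟩ ⟨x₂, h2, rfl⟩
        exact ⟨x₁ + x₂, Ideal.add_mem _ h1 h2, map_add _ _ _⟩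
      · rintro s r _ ⟨x₁, h1, rfl⟩
        obtain ⟨y, rfl⟩ := e.q_surj s
        exact ⟨y * x₁, Ideal.mul_mem_left _ _ h1, by rw [smul_eq_mul, map_mul]⟩
    obtain ⟨x', hx', hqx'⟩ := claim _ h1
    have h2 : e.q (x - x') = 0 := by rw [map_sub, hqx', sub_self]
    obtain ⟨z, hz⟩ := e.exists_of_q_eq_zero h2
    have h3 : x = x' + e.ι z := by rw [hz]; ring
    rw [h3]
    refine Ideal.add_mem _ hx' ?_
    exact Ideal.map_mono (ker_p_le eC' eC hpe) (e.ι_mem_map hπ z)
  · rw [Ideal.map_le_iff_le_comap]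
    intro c hc
    rw [Ideal.mem_comap, RingHom.mem_ker, RingHom.comp_apply, e.π_q_a' eC' eC hpe hπa]
    have : eC' c = 0 := hc
    rw [this, map_zero]

end JExt

end Groth.Agent.Lib.Helper97.DefTors
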