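import Groth.Agent.Lib.Helper97.DefTors.Sum
import Groth.Agent.Lib.Helper97.DefTors.JExtKer

/-!
# The sum construction respects equivalences and is injective on classes
-/

set_option autoImplicit false

namespace Groth.Agent.Lib.Helper97.DefTors

open TensorProduct

universe u

variable {k : Type u} [Field k] {C' C : Type u} [CommRing C'] [CommRing C] [Algebra k C']
  [Algebra k C] {p : C' →ₐ[k] C}
  {B₀ : Type u} [CommRing B₀] [Algebra k B₀]
  {R : Type u} [CommRing R] {a : C →+* R} {π : R →+* B₀}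

/-- Equivalence of extensions of a deformation: a ring isomorphism over `C'` and over `R`. -/
def JExt.Equivalent (e e' : JExt p a π) : Prop :=
  ∃ φ : e.R' ≃+* e'.R', (∀ c, φ (e.a' c) = e'.a' c) ∧ (∀ x, e'.q (φ x) = e.q x)

lemma JExt.Equivalent.refl (e : JExt p a π) : e.Equivalent e :=
  ⟨RingEquiv.refl _, fun _ => rfl, fun _ => rfl⟩

lemma JExt.Equivalent.symm {e e' : JExt p a π} (h : e.Equivalent e') : e'.Equivalent e := by
  obtain ⟨φ, h1, h2⟩ := h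
  refine ⟨φ.symm, fun c => ?_, fun x => ?_⟩
  · rw [RingEquiv.symm_apply_eq, h1]
  · rw [← h2, RingEquiv.apply_symm_apply]

lemma JExt.Equivalent.trans {e e' e'' : JExt p a π} (h : e.Equivalent e')
    (h' : e'.Equivalent e'') : e.Equivalent e'' := by
  obtain ⟨φ, h1, h2⟩ := h
  obtain ⟨ψ, h3, h4⟩ := h'
  exact ⟨φ.trans ψ, fun c => by rw [RingEquiv.trans_apply, h1, h3],
    fun x => by rw [RingEquiv.trans_apply, h4, h2]⟩

/-- A compatible ring map between extensions is an equivalence. -/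
lemma JExt.equivalent_of_hom {e e' : JExt p a π} (φ : e.R' →+* e'.R')
    (hφa : ∀ c, φ (e.a' c) = e'.a' c) (hφq : ∀ x, e'.q (φ x) = e.q x)
    (hφι : ∀ z, φ (e.ι z) = e'.ι z) : e.Equivalent e' :=
  ⟨RingEquiv.ofBijective φ (JExt.hom_bijective φ hφq hφι), hφa, hφq⟩

variable (eC' : C' →ₐ[k] k) (eC : C →ₐ[k] k) (hpe : eC.comp p = eC')
  (hp : Function.Surjective p) (hπ : Function.Surjective π)
  (hπa : ∀ c, π (a c) = algebraMap k B₀ (eC c))
  (hkerπ : RingHom.ker π = (RingHom.ker eC.toRingHom).map a)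
  (e₀ : JExt p a π) (D₀ D₀' : Exal.Ext k B₀ (B₀ ⊗[k] ↥(RingHom.ker p)))

section Map

variable {D₀ D₀'} (Φ : D₀.E →ₐ[k] D₀'.E) (hproj : ∀ x, D₀'.proj (Φ x) = D₀.proj x)
  (hincl : ∀ z, Φ (D₀.incl z) = D₀'.incl z)

/-- The map of fibre products induced by a morphism of extensions of the closed fibre. -/
noncomputable def sumGMap : sumG e₀ D₀ →+* sumG e₀ D₀' :=
  RingHom.codRestrict
    ((RingHom.prodMap (RingHom.id e₀.R') Φ.toRingHom).comp (sumG e₀ D₀).subtype) (sumG e₀ D₀')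
    (fun g => by
      rw [mem_sumG]
      show π (e₀.q g.1.1) = D₀'.proj (Φ g.1.2)
      rw [hproj, sumG_prop])

lemma sumGMap_coe (g : sumG e₀ D₀) :
    ((sumGMap e₀ Φ hproj g : sumG e₀ D₀') : e₀.R' × D₀'.E) = (g.1.1, Φ g.1.2) := rfl

/-- The map of sums induced by a morphism of extensions of the closed fibre. -/
noncomputable def sumMap : SumR e₀ D₀ →+* SumR e₀ D₀' :=
  Ideal.Quotient.lift (sumD e₀ D₀) ((Ideal.Quotient.mk (sumD e₀ D₀')).comp (sumGMap e₀ Φ hproj))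
    (by
      rintro g ⟨m, hm⟩
      rw [RingHom.comp_apply, Ideal.Quotient.eq_zero_iff_mem]
      refine ⟨m, ?_⟩
      rw [sumGMap_coe]
      have h1 : g.1.1 = e₀.ι m := congrArg Prod.fst hm
      have h2 : g.1.2 = - D₀.incl m := congrArg Prod.snd hm
      rw [h1, h2, map_neg, hincl])

lemma sumMap_mk (g : sumG e₀ D₀) :
    sumMap e₀ Φ hproj hincl (Ideal.Quotient.mk _ g) =
      Ideal.Quotient.mk _ (sumGMap e₀ Φ hproj g) := rfl

include hproj hincl in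
theorem sum_equivalent_of_algHom :
    (JExt.sum eC' eC hpe hπa e₀ D₀).Equivalent (JExt.sum eC' eC hpe hπa e₀ D₀') := by
  refine JExt.equivalent_of_hom (e := JExt.sum eC' eC hpe hπa e₀ D₀)
    (e' := JExt.sum eC' eC hpe hπa e₀ D₀') (sumMap e₀ Φ hproj hincl) ?_ ?_ ?_
  · intro c
    show sumMap e₀ Φ hproj hincl (Ideal.Quotient.mk _ _) = Ideal.Quotient.mk _ _
    rw [sumMap_mk]
    congr 1
    apply Subtype.ext
    rw [sumGMap_coe]
    show (e₀.a' c, Φ (algebraMap k D₀.E (eC' c))) = (e₀.a' c, algebraMap k D₀'.E (eC' c))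
    rw [AlgHom.commutes]
  · intro x
    obtain ⟨g, rfl⟩ := Ideal.Quotient.mk_surjective x
    rfl
  · intro z
    show sumMap e₀ Φ hproj hincl (sumι e₀ D₀ z) = sumι e₀ D₀' z
    rw [sumι_apply, sumι_apply, sumMap_mk]
    congr 1
    apply Subtype.ext
    rw [sumGMap_coe]
    show (e₀.ι z, Φ 0) = (e₀.ι z, (0 : D₀'.E))
    rw [map_zero]

end Map

theorem sum_equivalent_of_equiv (θ : D₀.Equiv D₀') :
    (JExt.sum eC' eC hpe hπa e₀ D₀).Equivalent (JExt.sum eC' eC hpe hπa e₀ D₀') :=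
  sum_equivalent_of_algHom eC' eC hpe hπa e₀ (θ.toAlgEquiv : D₀.E →ₐ[k] D₀'.E) θ.proj_apply
    θ.apply_incl

section Inj

variable (φ : SumR e₀ D₀ ≃+* SumR e₀ D₀')
  (hφa : ∀ c, φ (sumA eC' eC hpe hπa e₀ D₀ c) = sumA eC' eC hpe hπa e₀ D₀' c)
  (hφq : ∀ x, sumQ e₀ D₀' (φ x) = sumQ e₀ D₀ x)

include hpe hp hπ hπa hkerπ in
lemma mem_sumG_of_mem_map (D : Exal.Ext k B₀ (B₀ ⊗[k] ↥(RingHom.ker p))) (u : e₀.R')
    (hu : u ∈ (RingHom.ker eC'.toRingHom).map e₀.a') : (u, (0 : D.E)) ∈ sumG e₀ D := by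
  rw [mem_sumG]
  show π (e₀.q u) = D.proj 0
  rw [map_zero]
  rw [← e₀.ker_π_q eC' eC hpe hp hπ hπa hkerπ] at hu
  exact hu

include hφa hφq hp hπ hkerπ in
/-- The key lemma: `φ` fixes the classes of `(u, 0)` for `u` in the maximal ideal part. -/
lemma φ_mk_of_mem_map (u : e₀.R') (hu : u ∈ (RingHom.ker eC'.toRingHom).map e₀.a') :
    φ (Ideal.Quotient.mk _ ⟨(u, 0), mem_sumG_of_mem_map eC' eC hpe hp hπ hπa hkerπ e₀ D₀ u hu⟩) =
      Ideal.Quotient.mk _ ⟨(u, 0), mem_sumG_of_mem_map eC' eC hpe hp hπ hπa hkerπ e₀ D₀' u hu⟩ := by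
  have hmem := fun D u hu => mem_sumG_of_mem_map eC' eC hpe hp hπ hπa hkerπ e₀ D u hu
  refine Submodule.span_induction (p := fun u hu =>
    φ (Ideal.Quotient.mk _ ⟨(u, 0), hmem D₀ u hu⟩) = Ideal.Quotient.mk _ ⟨(u, 0), hmem D₀' u hu⟩)
    ?_ ?_ ?_ ?_ hu
  · rintro _ ⟨c, hc, rfl⟩
    have hc0 : eC' c = 0 := hc
    have h1 : ∀ D : Exal.Ext k B₀ (B₀ ⊗[k] ↥(RingHom.ker p)),
        (Ideal.Quotient.mk (sumD e₀ D) ⟨(e₀.a' c, 0), hmem D _ (Ideal.subset_span ⟨c, hc, rfl⟩)⟩) =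
          sumA eC' eC hpe hπa e₀ D c := by
      intro D
      show Ideal.Quotient.mk _ _ = Ideal.Quotient.mk _ _
      congr 1
      apply Subtype.ext
      show (e₀.a' c, (0 : D.E)) = (e₀.a' c, algebraMap k D.E (eC' c))
      rw [hc0, map_zero]
    rw [h1 D₀, h1 D₀', hφa]
  · have h0 : ∀ D : Exal.Ext k B₀ (B₀ ⊗[k] ↥(RingHom.ker p)),
        (Ideal.Quotient.mk (sumD e₀ D) ⟨((0 : e₀.R'), (0 : D.E)), hmem D 0 (Ideal.zero_mem _)⟩) = 0 := by
      intro D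
      have : (⟨((0 : e₀.R'), (0 : D.E)), hmem D 0 (Ideal.zero_mem _)⟩ : sumG e₀ D) = 0 := rfl
      rw [this, map_zero]
    rw [h0 D₀, h0 D₀', map_zero]
  · intro u₁ u₂ hu₁ hu₂ ih₁ ih₂
    have hadd : ∀ D : Exal.Ext k B₀ (B₀ ⊗[k] ↥(RingHom.ker p)),
        (Ideal.Quotient.mk (sumD e₀ D) ⟨(u₁ + u₂, 0), hmem D _ (Ideal.add_mem _ hu₁ hu₂)⟩) =
          Ideal.Quotient.mk _ ⟨(u₁, 0), hmem D u₁ hu₁⟩ +
            Ideal.Quotient.mk _ ⟨(u₂, 0), hmem D u₂ hu₂⟩ := by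
      intro D
      rw [← map_add]
      congr 1
      apply Subtype.ext
      show (u₁ + u₂, (0 : D.E)) = (u₁, 0) + (u₂, 0)
      simp
    rw [hadd D₀, hadd D₀', map_add, ih₁, ih₂]
  · intro r u hu ih
    obtain ⟨δ, hδ⟩ := D₀.isExtension.proj_surjective (π (e₀.q r))
    have hrδ : (r, δ) ∈ sumG e₀ D₀ := by
      rw [mem_sumG]
      exact hδ.symm
    have hru : r • u ∈ (RingHom.ker eC'.toRingHom).map e₀.a' := Ideal.mul_mem_left _ _ hu
    have hmul : Ideal.Quotient.mk (sumD e₀ D₀) ⟨(r • u, 0), hmem D₀ _ hru⟩ =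
        Ideal.Quotient.mk _ ⟨(r, δ), hrδ⟩ * Ideal.Quotient.mk _ ⟨(u, 0), hmem D₀ u hu⟩ := by
      rw [← map_mul]
      congr 1
      apply Subtype.ext
      show (r • u, (0 : D₀.E)) = (r * u, δ * 0)
      rw [mul_zero, smul_eq_mul]
    rw [hmul, map_mul, ih]
    obtain ⟨g₁, hg₁⟩ := Ideal.Quotient.mk_surjective (φ (Ideal.Quotient.mk _ ⟨(r, δ), hrδ⟩))
    rw [← hg₁, ← map_mul]
    have hq1 : e₀.q g₁.1.1 = e₀.q r := by
      have := hφq (Ideal.Quotient.mk _ ⟨(r, δ), hrδ⟩)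
      rw [← hg₁, sumQ_mk, sumQ_mk] at this
      exact this
    have h2 : e₀.q (g₁.1.1 - r) = 0 := by rw [map_sub, hq1, sub_self]
    obtain ⟨m, hm⟩ := e₀.exists_of_q_eq_zero h2
    have hπu : π (e₀.q u) = 0 := by
      have := hmem D₀ u hu
      rw [mem_sumG] at this
      rw [this, map_zero]
    congr 1
    apply Subtype.ext
    show (g₁.1.1 * u, g₁.1.2 * (0 : D₀'.E)) = (r • u, 0)
    rw [mul_zero, smul_eq_mul]
    have h3 : g₁.1.1 = r + e₀.ι m := by rw [hm]; ring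
    rw [h3, add_mul, mul_comm (e₀.ι m) u, e₀.mul_ι, hπu, zero_smul, map_zero, add_zero]

include hφa hφq hpe hp hπ hπa hkerπ in
/-- Injectivity of the sum construction on classes. -/
theorem nonempty_equiv_of_sum_ringEquiv : Nonempty (D₀.Equiv D₀') := by
  classical
  have hφι : ∀ z, φ (sumι e₀ D₀ z) = sumι e₀ D₀' z :=
    JExt.hom_ι (e := JExt.sum eC' eC hpe hπa e₀ D₀) (e' := JExt.sum eC' eC hpe hπa e₀ D₀') hπ
      (φ : SumR e₀ D₀ →+* SumR e₀ D₀') hφa hφq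
  -- the correspondence
  let W : Subring (e₀.R' × D₀.E × D₀'.E) :=
    { carrier := {w | ∃ (h : (w.1, w.2.1) ∈ sumG e₀ D₀) (h' : (w.1, w.2.2) ∈ sumG e₀ D₀'),
        φ (Ideal.Quotient.mk _ ⟨_, h⟩) = Ideal.Quotient.mk _ ⟨_, h'⟩}
      mul_mem' := by
        rintro w₁ w₂ ⟨h₁, h₁', e₁⟩ ⟨h₂, h₂', e₂⟩
        refine ⟨(sumG e₀ D₀).mul_mem h₁ h₂, (sumG e₀ D₀').mul_mem h₁' h₂', ?_⟩
        have : ∀ (D : Exal.Ext k B₀ (B₀ ⊗[k] ↥(RingHom.ker p))) (x y : e₀.R' × D.E)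
            (hx : x ∈ sumG e₀ D) (hy : y ∈ sumG e₀ D),
            Ideal.Quotient.mk (sumD e₀ D) ⟨x * y, (sumG e₀ D).mul_mem hx hy⟩ =
              Ideal.Quotient.mk _ ⟨x, hx⟩ * Ideal.Quotient.mk _ ⟨y, hy⟩ := by
          intro D x y hx hy
          rw [← map_mul]
          rfl
        exact (congrArg φ (this D₀ _ _ h₁ h₂)).trans (by
          rw [map_mul, e₁, e₂]
          exact (this D₀' _ _ h₁' h₂').symm)
      one_mem' := ⟨(sumG e₀ D₀).one_mem, (sumG e₀ D₀').one_mem, map_one φ⟩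
      add_mem' := by
        rintro w₁ w₂ ⟨h₁, h₁', e₁⟩ ⟨h₂, h₂', e₂⟩
        refine ⟨(sumG e₀ D₀).add_mem h₁ h₂, (sumG e₀ D₀').add_mem h₁' h₂', ?_⟩
        have : ∀ (D : Exal.Ext k B₀ (B₀ ⊗[k] ↥(RingHom.ker p))) (x y : e₀.R' × D.E)
            (hx : x ∈ sumG e₀ D) (hy : y ∈ sumG e₀ D),
            Ideal.Quotient.mk (sumD e₀ D) ⟨x + y, (sumG e₀ D).add_mem hx hy⟩ =
              Ideal.Quotient.mk _ ⟨x, hx⟩ + Ideal.Quotient.mk _ ⟨y, hy⟩ := by
          intro D x y hx hy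
          rw [← map_add]
          rfl
        exact (congrArg φ (this D₀ _ _ h₁ h₂)).trans (by
          rw [map_add, e₁, e₂]
          exact (this D₀' _ _ h₁' h₂').symm)
      zero_mem' := ⟨(sumG e₀ D₀).zero_mem, (sumG e₀ D₀').zero_mem, map_zero φ⟩
      neg_mem' := by
        rintro w ⟨h, h', e⟩
        refine ⟨(sumG e₀ D₀).neg_mem h, (sumG e₀ D₀').neg_mem h', ?_⟩
        have : ∀ (D : Exal.Ext k B₀ (B₀ ⊗[k] ↥(RingHom.ker p))) (x : e₀.R' × D.E)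
            (hx : x ∈ sumG e₀ D),
            Ideal.Quotient.mk (sumD e₀ D) ⟨-x, (sumG e₀ D).neg_mem hx⟩ =
              - Ideal.Quotient.mk _ ⟨x, hx⟩ := by
          intro D x hx
          rw [← map_neg]
          rfl
        exact (congrArg φ (this D₀ _ h)).trans (by
          rw [map_neg, e]
          exact (this D₀' _ h').symm) }
  let f : W →+* D₀.E := ((RingHom.fst D₀.E D₀'.E).comp (RingHom.snd e₀.R' (D₀.E × D₀'.E))).comp W.subtype
  let g : W →+* D₀'.E := ((RingHom.snd D₀.E D₀'.E).comp (RingHom.snd e₀.R' (D₀.E × D₀'.E))).comp W.subtype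
  have hf_apply : ∀ w : W, f w = w.1.2.1 := fun w => rfl
  have hg_apply : ∀ w : W, g w = w.1.2.2 := fun w => rfl
  have hπq_surj : Function.Surjective (π.comp e₀.q) := hπ.comp e₀.q_surj
  have hf : Function.Surjective f := by
    intro δ
    obtain ⟨y, hy⟩ := hπq_surj (D₀.proj δ)
    have hyδ : (y, δ) ∈ sumG e₀ D₀ := by rw [mem_sumG]; exact hy
    obtain ⟨g₁, hg₁⟩ := Ideal.Quotient.mk_surjective (φ (Ideal.Quotient.mk _ ⟨(y, δ), hyδ⟩))
    have hq1 : e₀.q g₁.1.1 = e₀.q y := by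
      have := hφq (Ideal.Quotient.mk _ ⟨(y, δ), hyδ⟩)
      rw [← hg₁, sumQ_mk, sumQ_mk] at this
      exact this
    have h2 : e₀.q (g₁.1.1 - y) = 0 := by rw [map_sub, hq1, sub_self]
    obtain ⟨m, hm⟩ := e₀.exists_of_q_eq_zero h2
    have hyδ' : (y, g₁.1.2 + D₀'.incl m) ∈ sumG e₀ D₀' := by
      rw [mem_sumG]
      show π (e₀.q y) = D₀'.proj (g₁.1.2 + D₀'.incl m)
      rw [map_add, (D₀'.isExtension.exact _).mpr ⟨m, rfl⟩, add_zero, ← sumG_prop, hq1]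
    refine ⟨⟨(y, δ, g₁.1.2 + D₀'.incl m), hyδ, hyδ', ?_⟩, rfl⟩
    rw [← hg₁, Ideal.Quotient.eq, mem_sumD]
    refine ⟨m, ?_⟩
    show (g₁.1.1 - y, g₁.1.2 - (g₁.1.2 + D₀'.incl m)) = (e₀.ι m, - D₀'.incl m)
    rw [hm]
    congr 1
    ring
  have hker : RingHom.ker f ≤ RingHom.ker g := by
    rintro ⟨⟨y, δ, δ'⟩, h, h', e⟩ hw
    rw [RingHom.mem_ker, hf_apply] at hw
    rw [RingHom.mem_ker, hg_apply]
    change δ = 0 at hw
    show δ' = 0
    subst hw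
    have hy : y ∈ (RingHom.ker eC'.toRingHom).map e₀.a' := by
      rw [← e₀.ker_π_q eC' eC hpe hp hπ hπa hkerπ, RingHom.mem_ker, RingHom.comp_apply]
      rw [mem_sumG] at h
      show π (e₀.q y) = 0
      rw [h]
      exact map_zero _
    have h1 := φ_mk_of_mem_map eC' eC hpe hp hπ hπa hkerπ e₀ D₀ D₀' φ hφa hφq y hy
    have h2 : Ideal.Quotient.mk (sumD e₀ D₀') ⟨(y, δ'), h'⟩ =
        Ideal.Quotient.mk (sumD e₀ D₀') ⟨(y, 0), _⟩ := e.symm.trans h1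
    rw [Ideal.Quotient.eq, mem_sumD] at h2
    obtain ⟨m, hm⟩ := h2
    have h3 : (0 : e₀.R') = e₀.ι m := by
      have := congrArg Prod.fst hm
      simpa using this
    have h4 : δ' = - D₀'.incl m := by
      have := congrArg Prod.snd hm
      simpa using this
    have h5 : m = 0 := e₀.ι_inj (by rw [← h3, map_zero])
    rw [h4, h5, map_zero, neg_zero]
  let Φ₀ : D₀.E →+* D₀'.E := RingHom.liftOfSurjective f hf ⟨g, hker⟩
  have hΦ₀ : ∀ w : W, Φ₀ (f w) = g w := fun w =>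
    RingHom.liftOfRightInverse_comp_apply f _ _ ⟨g, hker⟩ w
  -- membership facts
  have hWa : ∀ c : C', (e₀.a' c, algebraMap k D₀.E (eC' c), algebraMap k D₀'.E (eC' c)) ∈ W := by
    intro c
    exact ⟨mem_sumG_structure eC' eC hpe hπa e₀ D₀ c, mem_sumG_structure eC' eC hpe hπa e₀ D₀' c,
      hφa c⟩
  have hWι : ∀ m, ((0 : e₀.R'), D₀.incl m, D₀'.incl m) ∈ W := by
    intro m
    refine ⟨mem_sumG_incl e₀ D₀ m, mem_sumG_incl e₀ D₀' m, ?_⟩
    rw [mk_incl_eq, mk_incl_eq, hφι]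
  let Φ : D₀.E →ₐ[k] D₀'.E :=
    { Φ₀ with
      commutes' := fun κ => by
        have h1 := hΦ₀ ⟨_, hWa (algebraMap k C' κ)⟩
        rw [hf_apply, hg_apply] at h1
        have h2 : eC' (algebraMap k C' κ) = κ := eC'.commutes κ
        simp only [h2] at h1
        exact h1 }
  have hΦ : ∀ x, Φ x = Φ₀ x := fun x => rfl
  refine nonempty_equiv_of_algHom D₀ D₀' Φ ?_ ?_
  · intro x
    obtain ⟨w, rfl⟩ := hf x
    rw [hΦ, hΦ₀, hf_apply, hg_apply]
    obtain ⟨h, h', -⟩ := w.2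
    rw [mem_sumG] at h h'
    exact h'.symm.trans h
  · intro m
    have h1 := hΦ₀ ⟨_, hWι m⟩
    rw [hf_apply, hg_apply] at h1
    exact h1

end Inj

end Groth.Agent.Lib.Helper97.DefTors
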