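import Groth.Agent.Lib.Helper97.DefTors.Flat
import Groth.Agent.Lib.Helper97.DefTors.SumInj

/-!
# The difference of two extensions of a deformation
-/

set_option autoImplicit false

namespace Groth.Agent.Lib.Helper97.DefTors

open TensorProduct

universe u

variable {k : Type u} [Field k] {C' C : Type u} [CommRing C'] [CommRing C] [Algebra k C']
  [Algebra k C] {p : C' →ₐ[k] C}
  {B₀ : Type u} [CommRing B₀] [Algebra k B₀]
  {R : Type u} [CommRing R] {a : C →+* R} {π : R →+* B₀}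
  (eC' : C' →ₐ[k] k) (eC : C →ₐ[k] k) (hpe : eC.comp p = eC')
  (hp : Function.Surjective p) (hπ : Function.Surjective π)
  (hπa : ∀ c, π (a c) = algebraMap k B₀ (eC c))
  (hkerπ : RingHom.ker π = (RingHom.ker eC.toRingHom).map a)
  (hJ : ∀ c ∈ RingHom.ker eC'.toRingHom, ∀ j ∈ RingHom.ker p, c * j = 0)
  (e₀ e : JExt p a π)

/-- The fibre product `R' ×_R R'₀`. -/
def diffG : Subring (e.R' × e₀.R') :=
  RingHom.eqLocus (e.q.comp (RingHom.fst e.R' e₀.R')) (e₀.q.comp (RingHom.snd e.R' e₀.R'))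

lemma mem_diffG (g : e.R' × e₀.R') : g ∈ diffG e₀ e ↔ e.q g.1 = e₀.q g.2 := Iff.rfl

lemma diffG_prop (g : diffG e₀ e) : e.q g.1.1 = e₀.q g.1.2 := g.2

/-- The diagonal copy of the kernel. -/
def diffΔ : Ideal (diffG e₀ e) where
  carrier := {g | ∃ m, (g : e.R' × e₀.R') = (e.ι m, e₀.ι m)}
  add_mem' := by
    rintro g h ⟨m, hm⟩ ⟨m', hm'⟩
    refine ⟨m + m', ?_⟩
    rw [Subring.coe_add, hm, hm', map_add, map_add]
    rfl
  zero_mem' := ⟨0, by rw [map_zero, map_zero]; rfl⟩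
  smul_mem' := by
    rintro c g ⟨m, hm⟩
    refine ⟨π (e.q c.1.1) • m, ?_⟩
    show ((c * g : diffG e₀ e) : e.R' × e₀.R') = _
    rw [Subring.coe_mul, hm]
    apply Prod.ext
    · show c.1.1 * e.ι m = e.ι (π (e.q c.1.1) • m)
      exact e.mul_ι _ _
    · show c.1.2 * e₀.ι m = e₀.ι (π (e.q c.1.1) • m)
      rw [e₀.mul_ι, diffG_prop]

lemma mem_diffΔ (g : diffG e₀ e) :
    g ∈ diffΔ e₀ e ↔ ∃ m, (g : e.R' × e₀.R') = (e.ι m, e₀.ι m) := Iff.rfl

/-- The structure map of the fibre product. -/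
noncomputable def diffA : C' →+* diffG e₀ e :=
  RingHom.codRestrict (RingHom.prod e.a' e₀.a') (diffG e₀ e) (fun c => by
    rw [mem_diffG]
    show e.q (e.a' c) = e₀.q (e₀.a' c)
    rw [e.q_a', e₀.q_a'])

lemma diffA_coe (c : C') : ((diffA e₀ e c : diffG e₀ e) : e.R' × e₀.R') = (e.a' c, e₀.a' c) := rfl

/-- The ideal to be divided out. -/
noncomputable def diffK : Ideal (diffG e₀ e) :=
  diffΔ e₀ e ⊔ (RingHom.ker eC'.toRingHom).map (diffA e₀ e)

/-- The middle ring of the difference. -/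
def DiffE : Type u := diffG e₀ e ⧸ diffK eC' e₀ e

noncomputable instance : CommRing (DiffE eC' e₀ e) :=
  inferInstanceAs (CommRing (diffG e₀ e ⧸ diffK eC' e₀ e))

/-- The quotient map. -/
noncomputable def diffMk : diffG e₀ e →+* DiffE eC' e₀ e := Ideal.Quotient.mk (diffK eC' e₀ e)

lemma diffMk_surjective : Function.Surjective (diffMk eC' e₀ e) := Ideal.Quotient.mk_surjective

lemma diffMk_eq_zero_iff (g : diffG e₀ e) : diffMk eC' e₀ e g = 0 ↔ g ∈ diffK eC' e₀ e :=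
  Ideal.Quotient.eq_zero_iff_mem

noncomputable instance : Algebra k (DiffE eC' e₀ e) :=
  ((diffMk eC' e₀ e).comp ((diffA e₀ e).comp (algebraMap k C'))).toAlgebra

lemma diffE_algebraMap (κ : k) :
    algebraMap k (DiffE eC' e₀ e) κ = diffMk eC' e₀ e (diffA e₀ e (algebraMap k C' κ)) := rfl

include hpe hπa in
lemma diffK_le_ker :
    diffK eC' e₀ e ≤ RingHom.ker ((π.comp e.q).comp
      ((RingHom.fst e.R' e₀.R').comp (diffG e₀ e).subtype)) := by
  refine sup_le ?_ ?_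
  · rintro g ⟨m, hm⟩
    rw [RingHom.mem_ker]
    show π (e.q g.1.1) = 0
    rw [hm]
    show π (e.q (e.ι m)) = 0
    rw [e.q_ι, map_zero]
  · rw [Ideal.map_le_iff_le_comap]
    intro c hc
    rw [Ideal.mem_comap, RingHom.mem_ker]
    show π (e.q (e.a' c)) = 0
    rw [e.π_q_a' eC' eC hpe hπa]
    have : eC' c = 0 := hc
    rw [this, map_zero]

/-- The projection of the difference. -/
noncomputable def diffProj : DiffE eC' e₀ e →+* B₀ :=
  Ideal.Quotient.lift (diffK eC' e₀ e) ((π.comp e.q).comp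
      ((RingHom.fst e.R' e₀.R').comp (diffG e₀ e).subtype))
    (fun g hg => RingHom.mem_ker.mp (diffK_le_ker eC' eC hpe hπa e₀ e hg))

lemma diffProj_mk (g : diffG e₀ e) :
    diffProj eC' eC hpe hπa e₀ e (diffMk eC' e₀ e g) = π (e.q g.1.1) := rfl

lemma mem_diffG_ι (m : B₀ ⊗[k] ↥(RingHom.ker p)) : (e.ι m, (0 : e₀.R')) ∈ diffG e₀ e := by
  rw [mem_diffG]
  show e.q (e.ι m) = e₀.q 0
  rw [e.q_ι, map_zero]

/-- The inclusion of the kernel in the difference. -/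
noncomputable def diffIncl : (B₀ ⊗[k] ↥(RingHom.ker p)) →+ DiffE eC' e₀ e :=
  AddMonoidHom.mk' (fun m => diffMk eC' e₀ e ⟨(e.ι m, 0), mem_diffG_ι e₀ e m⟩) (by
    intro m m'
    rw [← map_add]
    congr 1
    apply Subtype.ext
    show (e.ι (m + m'), (0 : e₀.R')) = (e.ι m, 0) + (e.ι m', 0)
    rw [map_add]
    simp)

lemma diffIncl_apply (m : B₀ ⊗[k] ↥(RingHom.ker p)) :
    diffIncl eC' e₀ e m = diffMk eC' e₀ e ⟨(e.ι m, 0), mem_diffG_ι e₀ e m⟩ := rfl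

lemma mem_diffG_ι₀ (m : B₀ ⊗[k] ↥(RingHom.ker p)) : ((0 : e.R'), e₀.ι m) ∈ diffG e₀ e := by
  rw [mem_diffG]
  show e.q 0 = e₀.q (e₀.ι m)
  rw [e₀.q_ι, map_zero]

/-- In the difference the second copy of the kernel is the negative of the first. -/
lemma diffMk_ι₀ (m : B₀ ⊗[k] ↥(RingHom.ker p)) :
    diffMk eC' e₀ e ⟨(0, e₀.ι m), mem_diffG_ι₀ e₀ e m⟩ = - diffIncl eC' e₀ e m := by
  rw [diffIncl_apply, eq_neg_iff_add_eq_zero, ← map_add, diffMk_eq_zero_iff]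
  refine Ideal.mem_sup_left ⟨m, ?_⟩
  show ((0 : e.R'), e₀.ι m) + (e.ι m, 0) = (e.ι m, e₀.ι m)
  simp

include hpe hp in
/-- Elements of `𝔪_C R` lift to elements of `𝔪_{C'} G`. -/
lemma exists_mem_map_diffA (r : R) (hr : r ∈ (RingHom.ker eC.toRingHom).map a) :
    ∃ g ∈ (RingHom.ker eC'.toRingHom).map (diffA e₀ e), e.q (g : diffG e₀ e).1.1 = r := by
  refine Submodule.span_induction (p := fun r _ =>
    ∃ g ∈ (RingHom.ker eC'.toRingHom).map (diffA e₀ e), e.q (g : diffG e₀ e).1.1 = r)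
    ?_ ?_ ?_ ?_ hr
  · rintro _ ⟨cb, hcb, rfl⟩
    obtain ⟨c, rfl⟩ := hp cb
    refine ⟨diffA e₀ e c, Ideal.mem_map_of_mem _ ?_, e.q_a' c⟩
    rw [RingHom.mem_ker]
    show eC' c = 0
    rw [← JExt.eC_p eC' eC hpe]
    exact hcb
  · exact ⟨0, Ideal.zero_mem _, map_zero _⟩
  · rintro r₁ r₂ _ _ ⟨x₁, h1, rfl⟩ ⟨x₂, h2, rfl⟩
    exact ⟨x₁ + x₂, Ideal.add_mem _ h1 h2, map_add _ _ _⟩
  · rintro s r _ ⟨x₁, h1, rfl⟩
    obtain ⟨y, hy⟩ := e.q_surj s
    obtain ⟨y₀, hy₀⟩ := e₀.q_surj s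
    have hmem : (y, y₀) ∈ diffG e₀ e := by
      rw [mem_diffG]
      show e.q y = e₀.q y₀
      rw [hy, hy₀]
    refine ⟨⟨(y, y₀), hmem⟩ * x₁, Ideal.mul_mem_left _ _ h1, ?_⟩
    show e.q (y * x₁.1.1) = s • e.q x₁.1.1
    rw [map_mul, hy, smul_eq_mul]

end Groth.Agent.Lib.Helper97.DefTors
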