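import Groth.Agent.Lib.Helper97.DefTors.Diff

/-!
# The difference of two extensions is an extension of the closed fibre
-/

set_option autoImplicit false

namespace Groth.Agent.Lib.Helper97.DefTors

open TensorProduct

universe u

variable {k : Type u} [Field k] {C' C : Type u} [CommRing C'] [CommRing C] [Algebra k C']
  [Algebra k C] {p : C' →ₐ[k] C}
  {B₀ : Type u} [CommRing B₀] [Algebra k B₀]
  {R : Type u} [CommRing R] {a : C →+* R} {π : R →+* B₀}
  (eC' : C' →ₐ[k] k) (eC : C →ₐ[k] k) (hpe : eC.comp p = eC')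
  (hp : Function.Surjective p) (hπ : Function.Surjective π)
  (hπa : ∀ c, π (a c) = algebraMap k B₀ (eC c))
  (hkerπ : RingHom.ker π = (RingHom.ker eC.toRingHom).map a)
  (hJ : ∀ c ∈ RingHom.ker eC'.toRingHom, ∀ j ∈ RingHom.ker p, c * j = 0)

/-- The reduction of a linear combination of lifts. -/
lemma JExt.q_linearCombination (f : JExt p a π) {Λ : Type*} (b : Λ → R) (u : Λ → f.R')
    (hu : ∀ l, f.q (u l) = b l) (x : Λ →₀ C') :
    letI := a.toAlgebra
    letI := f.a'.toAlgebra
    f.q (Finsupp.linearCombination C' u x) =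
      Finsupp.linearCombination C b (x.mapRange p (map_zero p)) := by
  letI := a.toAlgebra
  letI := f.a'.toAlgebra
  induction x using Finsupp.induction_linear with
  | zero => simp
  | add f' g hf hg =>
    rw [map_add, map_add, hf, hg, Finsupp.mapRange_add (map_add p), map_add]
  | single l c =>
    rw [Finsupp.linearCombination_single, Finsupp.mapRange_single,
      Finsupp.linearCombination_single, Algebra.smul_def, map_mul, hu, Algebra.smul_def]
    have h1 : algebraMap C' f.R' c = f.a' c := rfl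
    have h2 : algebraMap C R (p c) = a (p c) := rfl
    rw [h1, h2, f.q_a']

include hpe hπa in
/-- Multiplication by an element of the maximal ideal in terms of lifts of a basis. -/
lemma JExt.a'_mul_eq (f : JExt p a π) {Λ : Type*} (b : letI := a.toAlgebra; Module.Basis Λ C R)
    (u : Λ → f.R') (hu : ∀ l, f.q (u l) = b l) (c : C') (hc : eC' c = 0) (x : f.R')
    (α : Λ →₀ C')
    (hα : α.mapRange p (map_zero p) = (letI := a.toAlgebra; b.repr (f.q x))) :
    letI := f.a'.toAlgebra
    f.a' c * x = Finsupp.linearCombination C' u (c • α) := by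
  letI := a.toAlgebra
  letI := f.a'.toAlgebra
  have h1 : f.q (x - Finsupp.linearCombination C' u α) = 0 := by
    rw [map_sub, f.q_linearCombination b u hu, hα, b.linearCombination_repr, sub_self]
  obtain ⟨z, hz⟩ := f.exists_of_q_eq_zero h1
  have h2 : x = Finsupp.linearCombination C' u α + f.ι z := by rw [hz]; abel
  rw [map_smul, Algebra.smul_def]
  have h3 : algebraMap C' f.R' c = f.a' c := rfl
  rw [h3]
  conv_lhs => rw [h2]
  rw [mul_add, f.mul_ι, f.π_q_a' eC' eC hpe hπa, hc, map_zero, zero_smul, map_zero, add_zero]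

variable (e₀ e : JExt p a π)

include hpe hp hπa hkerπ in
/-- The inclusion of the kernel in the difference is injective. -/
theorem diffIncl_injective [IsLocalRing C] (hC : IsNilpotent (IsLocalRing.maximalIdeal C))
    (ha : a.Flat) : Function.Injective (diffIncl eC' e₀ e) := by
  classical
  letI : Algebra C R := a.toAlgebra
  haveI : Module.Flat C R := ha
  haveI : Module.Free C R := Groth.Agent.Lib.Helper6.NilpNakayama.free_of_flat_of_nilpotent hC
  let b := Module.Free.chooseBasis C R
  have hv : ∀ l, ∃ m : e.R', e.q m = b l := fun l => e.q_surj (b l)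
  choose v hv using hv
  have hv₀ : ∀ l, ∃ m : e₀.R', e₀.q m = b l := fun l => e₀.q_surj (b l)
  choose v₀ hv₀ using hv₀
  letI : Algebra C' e.R' := e.a'.toAlgebra
  letI : Algebra C' e₀.R' := e₀.a'.toAlgebra
  let Φ : (Module.Free.ChooseBasisIndex C R →₀ C') →ₗ[C'] e.R' := Finsupp.linearCombination C' v
  let Φ₀ : (Module.Free.ChooseBasisIndex C R →₀ C') →ₗ[C'] e₀.R' :=
    Finsupp.linearCombination C' v₀
  have hM : ∀ μ ∈ (RingHom.ker eC'.toRingHom).map (diffA e₀ e), ∀ r : diffG e₀ e,
      ∃ γ, (r * μ : diffG e₀ e).1.1 = Φ γ ∧ (r * μ : diffG e₀ e).1.2 = Φ₀ γ := by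
    intro μ hμ
    refine Submodule.span_induction (p := fun μ _ => ∀ r : diffG e₀ e,
      ∃ γ, (r * μ : diffG e₀ e).1.1 = Φ γ ∧ (r * μ : diffG e₀ e).1.2 = Φ₀ γ) ?_ ?_ ?_ ?_ hμ
    · rintro _ ⟨c, hc, rfl⟩ r
      have hc0 : eC' c = 0 := hc
      obtain ⟨α, hα⟩ := Finsupp.mapRange_surjective p (map_zero p) hp (b.repr (e.q r.1.1))
      refine ⟨c • α, ?_, ?_⟩
      · show r.1.1 * e.a' c = Φ (c • α)
        rw [mul_comm]
        exact JExt.a'_mul_eq eC' eC hpe hπa e b v hv c hc0 r.1.1 α hα
      · show r.1.2 * e₀.a' c = Φ₀ (c • α)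
        rw [mul_comm]
        have hα₀ : α.mapRange p (map_zero p) = b.repr (e₀.q r.1.2) := by
          rw [hα, diffG_prop]
        exact JExt.a'_mul_eq eC' eC hpe hπa e₀ b v₀ hv₀ c hc0 r.1.2 α hα₀
    · intro r
      refine ⟨0, ?_, ?_⟩
      · rw [mul_zero, map_zero]; rfl
      · rw [mul_zero, map_zero]; rfl
    · intro μ₁ μ₂ _ _ h₁ h₂ r
      obtain ⟨γ₁, h11, h12⟩ := h₁ r
      obtain ⟨γ₂, h21, h22⟩ := h₂ r
      refine ⟨γ₁ + γ₂, ?_, ?_⟩
      · rw [mul_add, map_add, ← h11, ← h21]; rfl
      · rw [mul_add, map_add, ← h12, ← h22]; rfl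
    · intro s μ _ h r
      obtain ⟨γ, h1, h2⟩ := h (r * s)
      refine ⟨γ, ?_, ?_⟩
      · rw [smul_eq_mul, ← mul_assoc]; exact h1
      · rw [smul_eq_mul, ← mul_assoc]; exact h2
  rw [injective_iff_map_eq_zero]
  intro m hm
  rw [diffIncl_apply, diffMk_eq_zero_iff, diffK, Submodule.mem_sup] at hm
  obtain ⟨d, ⟨z, hz⟩, μ, hμ, hdμ⟩ := hm
  obtain ⟨γ, hγ1, hγ2⟩ := hM μ hμ 1
  rw [one_mul] at hγ1 hγ2
  have e1 : e.ι z + Φ γ = e.ι m := by
    have := congrArg (fun g : diffG e₀ e => g.1.1) hdμ
    simp only at this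
    rw [← hγ1, ← this]
    show e.ι z + μ.1.1 = d.1.1 + μ.1.1
    rw [hz]
  have e2 : e₀.ι z + Φ₀ γ = 0 := by
    have := congrArg (fun g : diffG e₀ e => g.1.2) hdμ
    simp only at this
    rw [← hγ2]
    show e₀.ι z + μ.1.2 = 0
    have h3 : d.1.2 + μ.1.2 = 0 := this
    rw [← h3, hz]
  have h1 : Finsupp.mapRange p (map_zero p) γ = 0 := by
    have h2 : Finsupp.linearCombination C b (Finsupp.mapRange p (map_zero p) γ) = 0 := by
      rw [← e₀.q_linearCombination b v₀ hv₀]
      have : e₀.q (e₀.ι z + Φ₀ γ) = 0 := by rw [e2, map_zero]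
      rw [map_add, e₀.q_ι, zero_add] at this
      exact this
    exact (LinearMap.ker_eq_bot.mpr b.linearIndependent).le h2 |> fun h => by
      simpa using h
  have h3 : ∀ l, γ l ∈ RingHom.ker (p : C' →+* C) := by
    intro l
    have := DFunLike.congr_fun h1 l
    rwa [Finsupp.mapRange_apply] at this
  obtain ⟨y, rfl⟩ := exists_mapRange_val_eq _ γ h3
  have hw : (fun l => π (e.q (v l))) = fun l => π (b l) := funext fun l => by rw [hv]
  have hw₀ : (fun l => π (e₀.q (v₀ l))) = fun l => π (b l) := funext fun l => by rw [hv₀]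
  have hΦ : Φ (y.mapRange Subtype.val rfl) =
      e.ι (tensG k ↥(RingHom.ker p) (fun l => π (b l)) y) := by
    have := ι_tensG_gen e.a' (π.comp e.q) e.ι (fun x j => e.ι_tmul x j) v y
    rw [sum_eq_linearCombination] at this
    rw [← hw]
    exact this.symm
  have hΦ₀ : Φ₀ (y.mapRange Subtype.val rfl) =
      e₀.ι (tensG k ↥(RingHom.ker p) (fun l => π (b l)) y) := by
    have := ι_tensG_gen e₀.a' (π.comp e₀.q) e₀.ι (fun x j => e₀.ι_tmul x j) v₀ y
    rw [sum_eq_linearCombination] at this
    rw [← hw₀]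
    exact this.symm
  rw [hΦ] at e1
  rw [hΦ₀, ← map_add] at e2
  have h4 : z + tensG k ↥(RingHom.ker p) (fun l => π (b l)) y = 0 :=
    e₀.ι_inj (e2.trans (map_zero _).symm)
  rw [← map_add, h4, map_zero] at e1
  exact e.ι_inj (e1.symm.trans (map_zero _).symm)

include hkerπ in
/-- The difference of two extensions of a deformation, an extension of the closed fibre. -/
noncomputable def JExt.diff [IsLocalRing C] (hC : IsNilpotent (IsLocalRing.maximalIdeal C))
    (ha : a.Flat) : Exal.Ext k B₀ (B₀ ⊗[k] ↥(RingHom.ker p)) where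
  E := DiffE eC' e₀ e
  proj :=
    { toRingHom := diffProj eC' eC hpe hπa e₀ e
      commutes' := fun κ => by
        show diffProj eC' eC hpe hπa e₀ e (algebraMap k (DiffE eC' e₀ e) κ) = algebraMap k B₀ κ
        rw [diffE_algebraMap, diffProj_mk]
        show π (e.q (e.a' (algebraMap k C' κ))) = _
        rw [e.π_q_a' eC' eC hpe hπa, AlgHom.commutes]
        rfl }
  incl := diffIncl eC' e₀ e
  isExtension :=
    { proj_surjective := by
        intro b₀
        obtain ⟨r, rfl⟩ := hπ b₀
        obtain ⟨y, hy⟩ := e.q_surj r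
        obtain ⟨y₀, hy₀⟩ := e₀.q_surj r
        have hmem : (y, y₀) ∈ diffG e₀ e := by
          rw [mem_diffG]
          show e.q y = e₀.q y₀
          rw [hy, hy₀]
        refine ⟨diffMk eC' e₀ e ⟨(y, y₀), hmem⟩, ?_⟩
        show diffProj eC' eC hpe hπa e₀ e (diffMk eC' e₀ e ⟨(y, y₀), hmem⟩) = π r
        rw [diffProj_mk]
        show π (e.q y) = π r
        rw [hy]
      incl_injective := diffIncl_injective eC' eC hpe hp hπa hkerπ e₀ e hC ha
      exact := by
        intro x
        obtain ⟨g, rfl⟩ := diffMk_surjective eC' e₀ e x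
        show diffProj eC' eC hpe hπa e₀ e (diffMk eC' e₀ e g) = 0 ↔ _
        rw [diffProj_mk]
        constructor
        · intro hx
          have h1 : e.q g.1.1 ∈ (RingHom.ker eC.toRingHom).map a := by
            rw [← hkerπ]
            exact hx
          obtain ⟨g', hg', hqg'⟩ := exists_mem_map_diffA eC' eC hpe hp e₀ e _ h1
          have h2 : e.q (g.1.1 - g'.1.1) = 0 := by rw [map_sub, hqg', sub_self]
          have h3 : e₀.q (g.1.2 - g'.1.2) = 0 := by
            rw [map_sub, ← diffG_prop, ← diffG_prop, hqg', sub_self]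
          obtain ⟨z₁, hz₁⟩ := e.exists_of_q_eq_zero h2
          obtain ⟨z₂, hz₂⟩ := e₀.exists_of_q_eq_zero h3
          refine ⟨z₁ - z₂, ?_⟩
          show diffIncl eC' e₀ e (z₁ - z₂) = diffMk eC' e₀ e g
          rw [diffIncl_apply, ← sub_eq_zero, ← map_sub, diffMk_eq_zero_iff]
          have h4 : (⟨(e.ι (z₁ - z₂), 0), mem_diffG_ι e₀ e (z₁ - z₂)⟩ : diffG e₀ e) - g =
              - (⟨(e.ι z₂, e₀.ι z₂), by
                  rw [mem_diffG]
                  show e.q (e.ι z₂) = e₀.q (e₀.ι z₂)
                  rw [e.q_ι, e₀.q_ι]⟩ : diffG e₀ e) - g' := by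
            apply Subtype.ext
            apply Prod.ext
            · show e.ι (z₁ - z₂) - g.1.1 = - e.ι z₂ - g'.1.1
              rw [map_sub, hz₁]
              ring
            · show (0 : e₀.R') - g.1.2 = - e₀.ι z₂ - g'.1.2
              rw [hz₂]
              ring
          rw [h4]
          refine Ideal.sub_mem _ (neg_mem (Ideal.mem_sup_left ⟨z₂, rfl⟩))
            (Ideal.mem_sup_right hg')
        · rintro ⟨m, hm⟩
          have hm' : diffIncl eC' e₀ e m = diffMk eC' e₀ e g := hm
          have := congrArg (diffProj eC' eC hpe hπa e₀ e) hm'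
          rw [diffIncl_apply, diffProj_mk, diffProj_mk] at this
          rw [← this]
          show π (e.q (e.ι m)) = 0
          rw [e.q_ι, map_zero]
      mul_incl := by
        intro x m
        obtain ⟨g, rfl⟩ := diffMk_surjective eC' e₀ e x
        show diffMk eC' e₀ e g * diffIncl eC' e₀ e m =
          diffIncl eC' e₀ e (diffProj eC' eC hpe hπa e₀ e (diffMk eC' e₀ e g) • m)
        rw [diffProj_mk, diffIncl_apply, diffIncl_apply, ← map_mul]
        congr 1
        apply Subtype.ext
        show (g.1.1 * e.ι m, g.1.2 * (0 : e₀.R')) = (e.ι (π (e.q g.1.1) • m), 0)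
        rw [e.mul_ι, mul_zero] }

end Groth.Agent.Lib.Helper97.DefTors
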