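import Groth.Agent.Lib.Helper97.DefTors.JExtKer
import Groth.Agent.Lib.Helper97.DefAff.RigidSection
import Groth.Agent.Lib.Helper6.NilpNakayama

/-!
# Flatness of an extension of a flat deformation
-/

set_option autoImplicit false

namespace Groth.Agent.Lib.Helper97.DefTors

open TensorProduct

universe u

section TensG

variable (k : Type*) [Field k] {B₀ : Type*} [AddCommGroup B₀] [Module k B₀]
  (J : Type*) [AddCommGroup J] [Module k J] {Λ : Type*} [DecidableEq Λ] (w : Λ → B₀)

/-- The map `(j_l) ↦ ∑ w_l ⊗ j_l`. -/
noncomputable def tensG : (Λ →₀ J) →ₗ[k] B₀ ⊗[k] J :=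
  (Finsupp.linearCombination k w).rTensor J ∘ₗ
    (TensorProduct.finsuppScalarLeft k J Λ).symm.toLinearMap

lemma tensG_single (l : Λ) (j : J) : tensG k J w (Finsupp.single l j) = w l ⊗ₜ j := by
  simp [tensG]

lemma tensG_injective (hw : LinearIndependent k w) : Function.Injective (tensG k J w) := by
  have h1 : Function.Injective (Finsupp.linearCombination k w) := hw
  have h2 := Module.Flat.rTensor_preserves_injective_linearMap (M := J) _ h1
  exact h2.comp (LinearEquiv.injective _)

lemma tensG_surjective (hw : Submodule.span k (Set.range w) = ⊤) :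
    Function.Surjective (tensG k J w) := by
  have h1 : Function.Surjective (Finsupp.linearCombination k w) := by
    rw [← LinearMap.range_eq_top, Finsupp.range_linearCombination, hw]
  exact (LinearMap.rTensor_surjective J h1).comp (LinearEquiv.surjective _)

end TensG

variable {k : Type u} [Field k] {C' C : Type u} [CommRing C'] [CommRing C] [Algebra k C']
  [Algebra k C] {p : C' →ₐ[k] C}
  {B₀ : Type u} [CommRing B₀] [Algebra k B₀]

/-- The kernel map applied to `∑ ρ(v_l) ⊗ j_l`. -/
lemma ι_tensG_gen {R' : Type*} [CommRing R'] (a' : C' →+* R') (ρ : R' →+* B₀)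
    (ι : (B₀ ⊗[k] ↥(RingHom.ker p)) →+ R')
    (hι : ∀ (x : R') (j : ↥(RingHom.ker p)), ι (ρ x ⊗ₜ j) = a' j * x)
    {Λ : Type*} [DecidableEq Λ] (v : Λ → R') (y : Λ →₀ ↥(RingHom.ker p)) :
    ι (tensG k ↥(RingHom.ker p) (fun l => ρ (v l)) y) = y.sum (fun l j => a' j * v l) := by
  induction y using Finsupp.induction_linear with
  | zero => simp
  | add f g hf hg =>
    rw [map_add, map_add, hf, hg, Finsupp.sum_add_index']
    · intro l
      simp
    · intro l j j'
      simp [add_mul]
  | single l j =>
    rw [tensG_single, hι, Finsupp.sum_single_index]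
    simp

/-- The sum `∑ a'(j_l) v_l` as a linear combination. -/
lemma sum_eq_linearCombination {R' : Type*} [CommRing R'] (a' : C' →+* R')
    {Λ : Type*} (v : Λ → R') (y : Λ →₀ ↥(RingHom.ker p)) :
    letI := a'.toAlgebra
    y.sum (fun l j => a' j * v l) =
      Finsupp.linearCombination C' v (y.mapRange Subtype.val rfl) := by
  letI := a'.toAlgebra
  rw [Finsupp.linearCombination_apply, Finsupp.sum_mapRange_index]
  · refine Finsupp.sum_congr fun l _ => ?_
    rw [Algebra.smul_def]
    rfl
  · intro l
    rw [zero_smul]

/-- A finitely supported family with values in an ideal comes from a family in the ideal. -/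
lemma exists_mapRange_val_eq {A : Type*} [CommRing A] (I : Ideal A) {Λ : Type*} (x : Λ →₀ A)
    (hx : ∀ l, x l ∈ I) : ∃ y : Λ →₀ ↥I, y.mapRange Subtype.val rfl = x := by
  classical
  refine ⟨x.mapRange (fun c => if h : c ∈ I then ⟨c, h⟩ else 0) (by simp), ?_⟩
  ext l
  rw [Finsupp.mapRange_apply, Finsupp.mapRange_apply, dif_pos (hx l)]

variable {R : Type u} [CommRing R] {a : C →+* R} {π : R →+* B₀}
  (eC' : C' →ₐ[k] k) (eC : C →ₐ[k] k) (hpe : eC.comp p = eC')
  (hp : Function.Surjective p) (hπ : Function.Surjective π)
  (hπa : ∀ c, π (a c) = algebraMap k B₀ (eC c))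
  (hkerπ : RingHom.ker π = (RingHom.ker eC.toRingHom).map a)
  (hJ : ∀ c ∈ RingHom.ker eC'.toRingHom, ∀ j ∈ RingHom.ker p, c * j = 0)

include hπa in
/-- The reduction of a linear combination. -/
lemma π_linearCombination {Λ : Type*} (b : Λ → R) (x : Λ →₀ C) :
    letI := a.toAlgebra
    π (Finsupp.linearCombination C b x) =
      Finsupp.linearCombination k (fun l => π (b l)) (x.mapRange eC (map_zero eC)) := by
  letI := a.toAlgebra
  induction x using Finsupp.induction_linear with
  | zero => simp
  | add f g hf hg => rw [map_add, map_add, hf, hg, Finsupp.mapRange_add (map_add eC), map_add]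
  | single l c =>
    rw [Finsupp.linearCombination_single, Finsupp.mapRange_single,
      Finsupp.linearCombination_single, Algebra.smul_def, map_mul]
    have : algebraMap C R c = a c := rfl
    rw [this, hπa, Algebra.smul_def]

include hπa hkerπ in
/-- The reduction of a basis of a free deformation is linearly independent over the field. -/
lemma linearIndependent_π_basis {Λ : Type*}
    (b : letI := a.toAlgebra; Module.Basis Λ C R) :
    LinearIndependent k (fun l => π (b l)) := by
  letI := a.toAlgebra
  rw [linearIndependent_iff]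
  intro l hl
  let x : Λ →₀ C := l.mapRange (algebraMap k C) (map_zero _)
  have hx : x.mapRange eC (map_zero eC) = l := by
    ext i
    rw [Finsupp.mapRange_apply, Finsupp.mapRange_apply, AlgHom.commutes]
    rfl
  have h1 : π (Finsupp.linearCombination C b x) = 0 := by
    rw [π_linearCombination eC hπa, hx]
    exact hl
  have h2 : Finsupp.linearCombination C b x ∈
      (RingHom.ker eC.toRingHom) • (⊤ : Submodule C R) := by
    rw [Ideal.smul_top_eq_map]
    show _ ∈ (RingHom.ker eC.toRingHom).map a
    rw [← hkerπ]
    exact h1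
  rw [DefAff.mem_smul_top_iff_repr b] at h2
  ext i
  have h3 := h2 i
  rw [Module.Basis.repr_linearCombination] at h3
  have h4 : eC (x i) = 0 := h3
  rw [Finsupp.mapRange_apply, AlgHom.commutes] at h4
  exact h4

include hpe hJ in
lemma ker_p_mul_self (j j' : C') (hj : j ∈ RingHom.ker p) (hj' : j' ∈ RingHom.ker p) :
    j * j' = 0 :=
  hJ j (JExt.ker_p_le eC' eC hpe hj) j' hj'

include hpe hJ in
lemma isNilpotent_ker_p : IsNilpotent (RingHom.ker (p : C' →+* C)) := by
  refine ⟨2, ?_⟩
  rw [sq, Ideal.zero_eq_bot, eq_bot_iff]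
  intro z hz
  refine Submodule.mul_induction_on hz ?_ ?_
  · intro j hj j' hj'
    rw [ker_p_mul_self eC' eC hpe hJ j j' hj hj']
    exact Ideal.zero_mem _
  · intro u v hu hv
    exact Ideal.add_mem _ hu hv

include hpe hp hπ hπa hkerπ hJ in
/-- Flatness of an extension of a flat deformation. -/
theorem JExt.flat [IsLocalRing C] (hC : IsNilpotent (IsLocalRing.maximalIdeal C))
    (ha : a.Flat) (e : JExt p a π) : e.a'.Flat := by
  classical
  letI : Algebra C R := a.toAlgebra
  haveI : Module.Flat C R := ha
  haveI : Module.Free C R := Groth.Agent.Lib.Helper6.NilpNakayama.free_of_flat_of_nilpotent hC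
  let b := Module.Free.chooseBasis C R
  have hv : ∀ l, ∃ m : e.R', e.q m = b l := fun l => e.q_surj (b l)
  choose v hv using hv
  letI : Algebra C' e.R' := e.a'.toAlgebra
  show Module.Flat C' e.R'
  let Φ : (Module.Free.ChooseBasisIndex C R →₀ C') →ₗ[C'] e.R' := Finsupp.linearCombination C' v
  have hqΦ : ∀ x, e.q (Φ x) =
      Finsupp.linearCombination C b (Finsupp.mapRange p (map_zero p) x) := by
    intro x
    induction x using Finsupp.induction_linear with
    | zero => simp
    | add f g hf hg =>
      rw [map_add, map_add, hf, hg, Finsupp.mapRange_add (map_add p), map_add]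
    | single l c =>
      show e.q (Finsupp.linearCombination C' v (Finsupp.single l c)) = _
      rw [Finsupp.linearCombination_single, Finsupp.mapRange_single,
        Finsupp.linearCombination_single, Algebra.smul_def, map_mul, hv, Algebra.smul_def]
      have h1 : algebraMap C' e.R' c = e.a' c := rfl
      have h2 : algebraMap C R (p c) = a (p c) := rfl
      rw [h1, h2, e.q_a']
  have hnil := isNilpotent_ker_p eC' eC hpe hJ
  have hsurj : Function.Surjective Φ := by
    rw [← LinearMap.range_eq_top]
    apply Groth.Agent.Lib.Helper6.NilpNakayama.eq_top_of_sup_smul_top_of_isNilpotent _ hnil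
    rw [eq_top_iff]
    intro x _
    obtain ⟨l', hl'⟩ := Finsupp.mapRange_surjective p (map_zero p) hp (b.repr (e.q x))
    have h1 : e.q (x - Φ l') = 0 := by
      rw [map_sub, hqΦ, hl', b.linearCombination_repr, sub_self]
    obtain ⟨z, hz⟩ := e.exists_of_q_eq_zero h1
    have h2 : x = Φ l' + e.ι z := by rw [hz]; abel
    rw [h2]
    refine Submodule.add_mem_sup (LinearMap.mem_range_self _ _) ?_
    rw [Ideal.smul_top_eq_map]
    exact e.ι_mem_map hπ z
  have hinj : Function.Injective Φ := by
    rw [injective_iff_map_eq_zero]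
    intro x hx
    have h1 : Finsupp.mapRange p (map_zero p) x = 0 := by
      have h2 : Finsupp.linearCombination C b (Finsupp.mapRange p (map_zero p) x) = 0 := by
        rw [← hqΦ, hx, map_zero]
      exact (LinearMap.ker_eq_bot.mpr b.linearIndependent).le h2 |> fun h => by
        simpa using h
    have h3 : ∀ l, x l ∈ RingHom.ker (p : C' →+* C) := by
      intro l
      have := DFunLike.congr_fun h1 l
      rwa [Finsupp.mapRange_apply] at this
    obtain ⟨y, rfl⟩ := exists_mapRange_val_eq _ x h3
    have h4 : e.ι (tensG k ↥(RingHom.ker p) (fun l => π (e.q (v l))) y) = 0 := by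
      have := ι_tensG_gen e.a' (π.comp e.q) e.ι (fun x j => e.ι_tmul x j) v y
      rw [sum_eq_linearCombination] at this
      exact this.trans hx
    have h5 : tensG k ↥(RingHom.ker p) (fun l => π (e.q (v l))) y = 0 :=
      e.ι_inj (h4.trans (map_zero _).symm)
    have h6 : LinearIndependent k (fun l => π (e.q (v l))) := by
      have := linearIndependent_π_basis eC hπa hkerπ b
      simpa only [hv] using this
    have h7 : y = 0 := tensG_injective k _ _ h6 (h5.trans (map_zero _).symm)
    rw [h7, Finsupp.mapRange_zero]
  exact Module.Flat.of_linearEquiv (LinearEquiv.ofBijective Φ ⟨hinj, hsurj⟩).symm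

end Groth.Agent.Lib.Helper97.DefTors
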