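import Groth.Prelude.Def_Exal
import Mathlib

/-!
# Extensions of a flat deformation along a surjection `C' → C` with kernel `J`, `𝔪 J = 0`

`JExt` is the ring-level notion: a ring `R'` over `C'` mapping onto `R` with kernel identified with
`B₀ ⊗ J`.
-/

set_option autoImplicit false

namespace Groth.Agent.Lib.Helper97.DefTors

open TensorProduct

universe u

variable {k : Type u} [Field k] {C' C : Type u} [CommRing C'] [CommRing C] [Algebra k C']
  [Algebra k C] (p : C' →ₐ[k] C)
  {B₀ : Type u} [CommRing B₀] [Algebra k B₀]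
  {R : Type u} [CommRing R] (a : C →+* R) (π : R →+* B₀)

/-- An extension of the `C`-algebra `R` to `C'`: a `C'`-algebra `R'` mapping onto `R`, whose kernel
is identified with `B₀ ⊗ J` compatibly with multiplication by `J`. -/
structure JExt where
  /-- the ring -/
  R' : Type u
  [commRing : CommRing R']
  /-- structure map -/
  a' : C' →+* R'
  /-- reduction -/
  q : R' →+* R
  /-- the kernel -/
  ι : (B₀ ⊗[k] ↥(RingHom.ker p)) →+ R'
  q_surj : Function.Surjective q
  ι_inj : Function.Injective ι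
  exact : ∀ x, q x = 0 ↔ x ∈ Set.range ι
  mul_ι : ∀ x z, x * ι z = ι (π (q x) • z)
  q_a' : ∀ c, q (a' c) = a (p c)
  a'_J : ∀ j : RingHom.ker p, a' j = ι (1 ⊗ₜ j)

attribute [instance] JExt.commRing

namespace JExt

variable {p a π}
variable (e e' : JExt p a π)

lemma q_ι (z : B₀ ⊗[k] ↥(RingHom.ker p)) : e.q (e.ι z) = 0 := (e.exact _).mpr ⟨z, rfl⟩

lemma exists_of_q_eq_zero {x : e.R'} (hx : e.q x = 0) : ∃ z, e.ι z = x := (e.exact x).mp hx

lemma ι_tmul (x : e.R') (j : RingHom.ker p) : e.ι (π (e.q x) ⊗ₜ j) = e.a' j * x := by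
  rw [e.a'_J, mul_comm, e.mul_ι, TensorProduct.smul_tmul', smul_eq_mul, mul_one]

lemma ι_mul_ι (z w : B₀ ⊗[k] ↥(RingHom.ker p)) : e.ι z * e.ι w = 0 := by
  rw [e.mul_ι, e.q_ι, map_zero, zero_smul, map_zero]

variable {e e'}

/-- A ring map compatible with the structure maps is compatible with the kernels. -/
lemma hom_ι (hπ : Function.Surjective π) (φ : e.R' →+* e'.R') (hφa : ∀ c, φ (e.a' c) = e'.a' c)
    (hφq : ∀ x, e'.q (φ x) = e.q x) (z : B₀ ⊗[k] ↥(RingHom.ker p)) : φ (e.ι z) = e'.ι z := by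
  induction z using TensorProduct.induction_on with
  | zero => rw [map_zero, map_zero, map_zero]
  | add x y hx hy => rw [map_add, map_add, map_add, hx, hy]
  | tmul b j =>
    obtain ⟨r, rfl⟩ := hπ b
    obtain ⟨x, rfl⟩ := e.q_surj r
    rw [e.ι_tmul, map_mul, hφa, ← hφq, e'.ι_tmul]

/-- The five lemma: a compatible ring map of extensions is bijective. -/
lemma hom_bijective (φ : e.R' →+* e'.R') (hφq : ∀ x, e'.q (φ x) = e.q x)
    (hφι : ∀ z, φ (e.ι z) = e'.ι z) : Function.Bijective φ := by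
  constructor
  · rw [injective_iff_map_eq_zero]
    intro x hx
    have h1 : e.q x = 0 := by rw [← hφq, hx, map_zero]
    obtain ⟨z, rfl⟩ := e.exists_of_q_eq_zero h1
    rw [hφι] at hx
    have : z = 0 := e'.ι_inj (by rw [hx, map_zero])
    rw [this, map_zero]
  · intro y
    obtain ⟨x, hx⟩ := e.q_surj (e'.q y)
    have h1 : e'.q (y - φ x) = 0 := by rw [map_sub, hφq, hx, sub_self]
    obtain ⟨z, hz⟩ := e'.exists_of_q_eq_zero h1
    refine ⟨x + e.ι z, ?_⟩
    rw [map_add, hφι, hz]
    ring

end JExt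

/-- The five lemma for extensions of algebras. -/
theorem nonempty_equiv_of_algHom {A : Type u} {B L : Type u} [CommRing A] [CommRing B]
    [Algebra A B] [AddCommGroup L] [Module B L] (X Y : Exal.Ext A B L) (Φ : X.E →ₐ[A] Y.E)
    (hproj : ∀ x, Y.proj (Φ x) = X.proj x) (hincl : ∀ z, Φ (X.incl z) = Y.incl z) :
    Nonempty (X.Equiv Y) := by
  have hinj : Function.Injective Φ := by
    rw [injective_iff_map_eq_zero]
    intro x hx
    have h1 : X.proj x = 0 := by rw [← hproj, hx, map_zero]
    obtain ⟨z, rfl⟩ := (X.isExtension.exact x).mp h1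
    rw [hincl] at hx
    have : z = 0 := Y.isExtension.incl_injective (by rw [hx, map_zero])
    rw [this, map_zero]
  have hsurj : Function.Surjective Φ := by
    intro y
    obtain ⟨x, hx⟩ := X.isExtension.proj_surjective (Y.proj y)
    have h1 : Y.proj (y - Φ x) = 0 := by rw [map_sub, hproj, hx, sub_self]
    obtain ⟨z, hz⟩ := (Y.isExtension.exact _).mp h1
    refine ⟨x + X.incl z, ?_⟩
    rw [map_add, hincl, hz]
    ring
  exact ⟨{ toAlgEquiv := AlgEquiv.ofBijective Φ ⟨hinj, hsurj⟩
           proj_apply := hproj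
           apply_incl := hincl }⟩

end Groth.Agent.Lib.Helper97.DefTors
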