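import Groth.Agent.Lib.Helper97.DefTors.Dict2
import Groth.Agent.Lib.Helper76.ExalT1

/-!
# Extensions of an affine deformation over a semismall extension form a `T¹`-pseudotorsor
-/

set_option autoImplicit false

namespace Groth.Agent.Lib.Helper97.DefTors

open CategoryTheory CategoryTheory.Limits AlgebraicGeometry
open Groth.Agent.Lib.Helper97.DefAff Groth.Agent.Lib.Helper97.DefLift
open TensorProduct

universe u

/-- A total, surjective correspondence compatible with two relations induces a bijection of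
quotients. -/
theorem nonempty_quot_equiv_of_rel {α β : Type*} (r : α → α → Prop) (s : Setoid β)
    (Rel : α → β → Prop) (htot : ∀ a, ∃ b, Rel a b) (hsurj : ∀ b, ∃ a, Rel a b)
    (h1 : ∀ a a' b b', Rel a b → Rel a' b' → r a a' → s.r b b')
    (h1' : ∀ a b b', Rel a b → Rel a b' → s.r b b')
    (h2 : ∀ a a' b b', Rel a b → Rel a' b' → s.r b b' → r a a') :
    Nonempty (Quot r ≃ Quotient s) := by
  classical
  choose F hF using htot
  let G : Quot r → Quotient s := Quot.lift (fun a => Quotient.mk s (F a))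
    (fun a a' h => Quotient.sound (h1 a a' _ _ (hF a) (hF a') h))
  refine ⟨Equiv.ofBijective G ⟨?_, ?_⟩⟩
  · intro u u'
    induction u using Quot.ind with
    | mk a =>
      induction u' using Quot.ind with
      | mk a' =>
        intro h
        have h3 : s.r (F a) (F a') := Quotient.exact h
        exact Quot.sound (h2 _ _ _ _ (hF a) (hF a') h3)
  · intro w
    induction w using Quotient.ind with
    | _ b =>
      obtain ⟨a, ha⟩ := hsurj b
      exact ⟨Quot.mk r a, Quotient.sound (h1' a _ _ (hF a) ha)⟩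

variable {k : Type u} [Field k] {B₀ : Type u} [CommRing B₀] [Algebra k B₀]
  {C' C : ArtFun.Art k k} (p : C' ⟶ C) (hp : ArtFun.Art.IsSemismallExt p)
  (𝒳 : Def k B₀ C)

include hp in
/-- Classes of extensions of an affine deformation correspond to classes of extensions of the
closed fibre by `B₀ ⊗ J`. -/
theorem nonempty_equiv_exalcom
    (hne : ∃ 𝒳' : Def k B₀ C', Nonempty ((𝒳'.baseChange p).Iso 𝒳)) :
    Nonempty (Quot (fun a b : Pair p 𝒳 =>
        ∃ ψ : a.1.Iso b.1, ((ψ.baseChange p).trans b.2).iso = a.2.iso) ≃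
      Exal.Exalcom k B₀ (B₀ ⊗[k] ↥(RingHom.ker p.toAlgHom))) := by
  obtain ⟨d, ⟨θ⟩⟩ := exists_algData_iso 𝒳
  obtain ⟨𝒳'₀, ⟨α₀⟩⟩ := hne
  obtain ⟨e₀, -⟩ := exists_rep p hp 𝒳 d θ ⟨𝒳'₀, α₀⟩
  have hC : IsNilpotent (IsLocalRing.maximalIdeal C.carrier) := isNilpotent_maximalIdeal
  refine nonempty_quot_equiv_of_rel _ (Exal.Ext.setoid k B₀ (B₀ ⊗[k] ↥(RingHom.ker p.toAlgHom)))
    (fun x D₀ => ∃ e, Rep p hp 𝒳 d θ x e ∧
      (JExt.sum C'.res C.res p.res_comp d.π_a e₀ D₀).Equivalent e) ?_ ?_ ?_ ?_ ?_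
  · intro x
    obtain ⟨e, he⟩ := exists_rep p hp 𝒳 d θ x
    exact ⟨JExt.diff C'.res C.res p.res_comp hp.1 d.π_surj d.π_a d.ker_π e₀ e hC d.flat, e, he,
      sum_diff_equivalent C'.res C.res p.res_comp hp.1 d.π_surj d.π_a d.ker_π e₀ e hC d.flat⟩
  · intro D₀
    obtain ⟨x, hx⟩ := exists_pair_rep p hp 𝒳 d θ
      (JExt.sum C'.res C.res p.res_comp d.π_a e₀ D₀)
    exact ⟨x, _, hx, JExt.Equivalent.refl _⟩
  · rintro x x' D₀ D₀' ⟨e, he, hS⟩ ⟨e', he', hS'⟩ ⟨ψ, hψ⟩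
    have hee' : e.Equivalent e' := equivalent_of_rep p hp 𝒳 d θ x x' e e' he he' ψ.iso.hom
      ψ.hom_f (uMap_of_rel p 𝒳 x x' ψ hψ)
    obtain ⟨φ, hφa, hφq⟩ := hS.trans (hee'.trans hS'.symm)
    exact nonempty_equiv_of_sum_ringEquiv C'.res C.res p.res_comp hp.1 d.π_surj d.π_a d.ker_π
      e₀ D₀ D₀' φ hφa hφq
  · rintro x D₀ D₀' ⟨e, he, hS⟩ ⟨e', he', hS'⟩
    have hee' : e.Equivalent e' := equivalent_of_rep p hp 𝒳 d θ x x e e' he he' (𝟙 _)
      (Category.id_comp _) (Category.comp_id _)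
    obtain ⟨φ, hφa, hφq⟩ := hS.trans (hee'.trans hS'.symm)
    exact nonempty_equiv_of_sum_ringEquiv C'.res C.res p.res_comp hp.1 d.π_surj d.π_a d.ker_π
      e₀ D₀ D₀' φ hφa hφq
  · rintro x x' D₀ D₀' ⟨e, he, hS⟩ ⟨e', he', hS'⟩ ⟨Θ⟩
    have h3 := sum_equivalent_of_equiv C'.res C.res p.res_comp d.π_a e₀ D₀ D₀' Θ
    exact rel_of_equivalent p hp 𝒳 d θ x x' e e' he he' (hS.symm.trans (h3.trans hS'))

include hp in
/-- Classes of extensions of an affine deformation are in bijection with `T¹(B₀/k, B₀ ⊗ J)`. -/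
theorem nonempty_equiv_T1
    (hne : ∃ 𝒳' : Def k B₀ C', Nonempty ((𝒳'.baseChange p).Iso 𝒳)) :
    Nonempty (Quot (fun a b : Pair p 𝒳 =>
        ∃ ψ : a.1.Iso b.1, ((ψ.baseChange p).trans b.2).iso = a.2.iso) ≃
      CotT.T1 (CotT.canon k B₀) (B₀ ⊗[k] ↥(RingHom.ker p.toAlgHom))) := by
  obtain ⟨E⟩ := nonempty_equiv_exalcom p hp 𝒳 hne
  obtain ⟨e, -⟩ := Groth.Agent.Lib.Helper76.ExalT1.exalcom_T1 k B₀
    (B₀ ⊗[k] ↥(RingHom.ker p.toAlgHom))
  exact ⟨E.trans e⟩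

end Groth.Agent.Lib.Helper97.DefTors
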