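import Groth.Agent.Lib.Helper97.DefTors.JExt

/-!
# The sum of an extension of a deformation and an extension of the closed fibre
-/

set_option autoImplicit false

namespace Groth.Agent.Lib.Helper97.DefTors

open TensorProduct

universe u

variable {k : Type u} [Field k] {C' C : Type u} [CommRing C'] [CommRing C] [Algebra k C']
  [Algebra k C] {p : C' →ₐ[k] C}
  {B₀ : Type u} [CommRing B₀] [Algebra k B₀]
  {R : Type u} [CommRing R] {a : C →+* R} {π : R →+* B₀}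
  (eC' : C' →ₐ[k] k) (eC : C →ₐ[k] k) (hpe : eC.comp p = eC')
  (hπa : ∀ c, π (a c) = algebraMap k B₀ (eC c))
  (e₀ : JExt p a π) (D₀ : Exal.Ext k B₀ (B₀ ⊗[k] ↥(RingHom.ker p)))

/-- The fibre product `R'₀ ×_{B₀} D₀`. -/
def sumG : Subring (e₀.R' × D₀.E) :=
  RingHom.eqLocus ((π.comp e₀.q).comp (RingHom.fst e₀.R' D₀.E))
    ((D₀.proj : D₀.E →+* B₀).comp (RingHom.snd e₀.R' D₀.E))

lemma mem_sumG (g : e₀.R' × D₀.E) : g ∈ sumG e₀ D₀ ↔ π (e₀.q g.1) = D₀.proj g.2 := Iff.rfl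

lemma sumG_prop (g : sumG e₀ D₀) : π (e₀.q g.1.1) = D₀.proj g.1.2 := g.2

/-- The antidiagonal copy of the kernel. -/
def sumD : Ideal (sumG e₀ D₀) where
  carrier := {g | ∃ m, (g : e₀.R' × D₀.E) = (e₀.ι m, - D₀.incl m)}
  add_mem' := by
    rintro g h ⟨m, hm⟩ ⟨m', hm'⟩
    refine ⟨m + m', ?_⟩
    rw [Subring.coe_add, hm, hm', map_add, map_add, neg_add]
    rfl
  zero_mem' := ⟨0, by rw [map_zero, map_zero, neg_zero]; rfl⟩
  smul_mem' := by
    rintro c g ⟨m, hm⟩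
    refine ⟨π (e₀.q c.1.1) • m, ?_⟩
    show ((c * g : sumG e₀ D₀) : e₀.R' × D₀.E) = _
    rw [Subring.coe_mul, hm]
    apply Prod.ext
    · show c.1.1 * e₀.ι m = e₀.ι (π (e₀.q c.1.1) • m)
      exact e₀.mul_ι _ _
    · show c.1.2 * (- D₀.incl m) = - D₀.incl (π (e₀.q c.1.1) • m)
      rw [mul_neg, D₀.isExtension.mul_incl, sumG_prop]

lemma mem_sumD (g : sumG e₀ D₀) :
    g ∈ sumD e₀ D₀ ↔ ∃ m, (g : e₀.R' × D₀.E) = (e₀.ι m, - D₀.incl m) := Iff.rfl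

/-- The middle ring of the sum. -/
abbrev SumR : Type u := sumG e₀ D₀ ⧸ sumD e₀ D₀

include hpe hπa in
lemma mem_sumG_structure (c : C') :
    (e₀.a' c, algebraMap k D₀.E (eC' c)) ∈ sumG e₀ D₀ := by
  rw [mem_sumG]
  show π (e₀.q (e₀.a' c)) = D₀.proj (algebraMap k D₀.E (eC' c))
  rw [e₀.q_a', hπa, AlgHom.commutes]
  have : eC (p c) = eC' c := congrArg (fun f => f c) hpe
  rw [this]

/-- The structure map of the sum. -/
noncomputable def sumA : C' →+* SumR e₀ D₀ :=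
  (Ideal.Quotient.mk (sumD e₀ D₀)).comp
    (RingHom.codRestrict (RingHom.prod e₀.a' ((algebraMap k D₀.E).comp eC'.toRingHom))
      (sumG e₀ D₀) (mem_sumG_structure eC' eC hpe hπa e₀ D₀))

/-- The reduction map of the sum. -/
noncomputable def sumQ : SumR e₀ D₀ →+* R :=
  Ideal.Quotient.lift (sumD e₀ D₀)
    (e₀.q.comp ((RingHom.fst e₀.R' D₀.E).comp (sumG e₀ D₀).subtype)) (by
      rintro g ⟨m, hm⟩
      show e₀.q g.1.1 = 0
      rw [hm]
      exact e₀.q_ι m)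

lemma sumQ_mk (g : sumG e₀ D₀) : sumQ e₀ D₀ (Ideal.Quotient.mk _ g) = e₀.q g.1.1 := rfl

lemma mem_sumG_ι (m : B₀ ⊗[k] ↥(RingHom.ker p)) : (e₀.ι m, (0 : D₀.E)) ∈ sumG e₀ D₀ := by
  rw [mem_sumG]
  show π (e₀.q (e₀.ι m)) = D₀.proj 0
  rw [e₀.q_ι, map_zero, map_zero]

/-- The inclusion of the kernel in the sum. -/
noncomputable def sumι : (B₀ ⊗[k] ↥(RingHom.ker p)) →+ SumR e₀ D₀ :=
  AddMonoidHom.mk' (fun m => Ideal.Quotient.mk (sumD e₀ D₀) ⟨(e₀.ι m, 0), mem_sumG_ι e₀ D₀ m⟩) (by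
    intro m m'
    rw [← map_add]
    congr 1
    apply Subtype.ext
    show (e₀.ι (m + m'), (0 : D₀.E)) = (e₀.ι m, 0) + (e₀.ι m', 0)
    rw [map_add]
    simp)

lemma sumι_apply (m : B₀ ⊗[k] ↥(RingHom.ker p)) :
    sumι e₀ D₀ m = Ideal.Quotient.mk (sumD e₀ D₀) ⟨(e₀.ι m, 0), mem_sumG_ι e₀ D₀ m⟩ := rfl

lemma mem_sumG_incl (m : B₀ ⊗[k] ↥(RingHom.ker p)) : ((0 : e₀.R'), D₀.incl m) ∈ sumG e₀ D₀ := by
  rw [mem_sumG]
  show π (e₀.q 0) = D₀.proj (D₀.incl m)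
  rw [map_zero, map_zero, (D₀.isExtension.exact _).mpr ⟨m, rfl⟩]

/-- In the sum, the two copies of the kernel are identified. -/
lemma mk_incl_eq (m : B₀ ⊗[k] ↥(RingHom.ker p)) :
    Ideal.Quotient.mk (sumD e₀ D₀) ⟨(0, D₀.incl m), mem_sumG_incl e₀ D₀ m⟩ = sumι e₀ D₀ m := by
  rw [sumι_apply, eq_comm, ← sub_eq_zero, ← map_sub, Ideal.Quotient.eq_zero_iff_mem]
  refine ⟨m, ?_⟩
  show (e₀.ι m, (0 : D₀.E)) - (0, D₀.incl m) = (e₀.ι m, - D₀.incl m)
  simp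

/-- The sum of an extension of the deformation and an extension of the closed fibre. -/
noncomputable def JExt.sum : JExt p a π where
  R' := SumR e₀ D₀
  a' := sumA eC' eC hpe hπa e₀ D₀
  q := sumQ e₀ D₀
  ι := sumι e₀ D₀
  q_surj := by
    intro r
    obtain ⟨y, hy⟩ := e₀.q_surj r
    obtain ⟨δ, hδ⟩ := D₀.isExtension.proj_surjective (π r)
    refine ⟨Ideal.Quotient.mk _ ⟨(y, δ), ?_⟩, ?_⟩
    · rw [mem_sumG]
      show π (e₀.q y) = D₀.proj δ
      rw [hy, hδ]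
    · rw [sumQ_mk]
      exact hy
  ι_inj := by
    rw [injective_iff_map_eq_zero]
    intro m hm
    rw [sumι_apply, Ideal.Quotient.eq_zero_iff_mem] at hm
    obtain ⟨m', hm'⟩ := hm
    have h1 : e₀.ι m = e₀.ι m' := congrArg Prod.fst hm'
    have h2 : (0 : D₀.E) = - D₀.incl m' := congrArg Prod.snd hm'
    have h3 : m' = 0 := by
      apply D₀.isExtension.incl_injective
      rw [map_zero, ← neg_eq_zero, ← h2]
    rw [e₀.ι_inj h1, h3]
  exact := by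
    intro x
    obtain ⟨g, rfl⟩ := Ideal.Quotient.mk_surjective x
    rw [sumQ_mk]
    constructor
    · intro hx
      obtain ⟨m, hm⟩ := e₀.exists_of_q_eq_zero hx
      have h1 : D₀.proj g.1.2 = 0 := by rw [← sumG_prop, hx, map_zero]
      obtain ⟨m', hm'⟩ := (D₀.isExtension.exact _).mp h1
      refine ⟨m + m', ?_⟩
      rw [map_add, ← mk_incl_eq e₀ D₀ m', sumι_apply, ← map_add]
      congr 1
      apply Subtype.ext
      show (e₀.ι m, (0 : D₀.E)) + (0, D₀.incl m') = (g.1.1, g.1.2)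
      rw [hm, hm']
      simp
    · rintro ⟨m, hm⟩
      rw [sumι_apply, Ideal.Quotient.eq, mem_sumD] at hm
      obtain ⟨m', hm'⟩ := hm
      have h1 : e₀.ι m - g.1.1 = e₀.ι m' := congrArg Prod.fst hm'
      have h2 : g.1.1 = e₀.ι (m - m') := by
        rw [map_sub, ← h1]
        ring
      rw [h2, e₀.q_ι]
  mul_ι := by
    intro x m
    obtain ⟨g, rfl⟩ := Ideal.Quotient.mk_surjective x
    rw [sumι_apply, sumι_apply, ← map_mul, sumQ_mk]
    congr 1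
    apply Subtype.ext
    show (g.1.1 * e₀.ι m, g.1.2 * (0 : D₀.E)) = (e₀.ι (π (e₀.q g.1.1) • m), 0)
    rw [e₀.mul_ι, mul_zero]
  q_a' := by
    intro c
    show e₀.q (e₀.a' c) = a (p c)
    exact e₀.q_a' c
  a'_J := by
    intro j
    rw [sumι_apply]
    show Ideal.Quotient.mk (sumD e₀ D₀) _ = _
    congr 1
    apply Subtype.ext
    show (e₀.a' j, algebraMap k D₀.E (eC' j)) = (e₀.ι (1 ⊗ₜ j), (0 : D₀.E))
    have h1 : eC' (j : C') = 0 := by
      rw [← hpe]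
      show eC (p j) = 0
      rw [RingHom.mem_ker.mp j.2, map_zero]
    rw [h1, map_zero, e₀.a'_J]

end Groth.Agent.Lib.Helper97.DefTors
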